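/-
Vectors of the eight-dimensional space as bit numbers, for evaluation (helper61).

* `ofN`, `toN` : the correspondence with numbers below 256; `ofN_xor`
* `qN`, `pN`, `rfN`, `prN` : form, polar form and products of reflections on numbers
* `prd`, `ap_prd` : the product of reflections in a list
-/
import Cfsg.Agent.Lib.CoType.Space

set_option autoImplicit false

namespace Cfsg.Agent.CoFive

open Cfsg.Agent.CoType Cfsg.Agent.Orth
open QuadraticMap (polar)

/-- A bit as a scalar. -/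
def b2 (b : Bool) : ZMod 2 := if b then 1 else 0

/-- The position of a coordinate. -/
def pos : J8 → ℕ
  | Sum.inl i => 2 * i.val
  | Sum.inr i => 2 * i.val + 1

/-- The vector of a number. -/
def ofN (n : ℕ) : V8 := fun j => b2 (n.testBit (pos j))

/-- The value at a bit. -/
def bitV (x : ZMod 2) (k : ℕ) : ℕ := if x = 1 then 2 ^ k else 0

/-- The number of a vector. -/
def toN (x : V8) : ℕ :=
  bitV (x (.inl 0)) 0 + bitV (x (.inr 0)) 1 + bitV (x (.inl 1)) 2 + bitV (x (.inr 1)) 3 +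
    bitV (x (.inl 2)) 4 + bitV (x (.inr 2)) 5 + bitV (x (.inl 3)) 6 + bitV (x (.inr 3)) 7

theorem toN_lt (x : V8) : toN x < 256 := by
  have h : ∀ (c : ZMod 2) (k : ℕ), bitV c k ≤ 2 ^ k := fun c k => by
    rw [bitV]; split <;> simp
  have := h (x (.inl 0)) 0; have := h (x (.inr 0)) 1; have := h (x (.inl 1)) 2
  have := h (x (.inr 1)) 3; have := h (x (.inl 2)) 4; have := h (x (.inr 2)) 5
  have := h (x (.inl 3)) 6; have := h (x (.inr 3)) 7
  simp only [toN]
  omega

theorem b2_bits : ∀ a b c d e f g h : ZMod 2,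
    let n := bitV a 0 + bitV b 1 + bitV c 2 + bitV d 3 + bitV e 4 + bitV f 5 + bitV g 6 + bitV h 7
    b2 (n.testBit 0) = a ∧ b2 (n.testBit 1) = b ∧ b2 (n.testBit 2) = c ∧ b2 (n.testBit 3) = d ∧
    b2 (n.testBit 4) = e ∧ b2 (n.testBit 5) = f ∧ b2 (n.testBit 6) = g ∧ b2 (n.testBit 7) = h := by
  decide +kernel

theorem ofN_toN (x : V8) : ofN (toN x) = x := by
  obtain ⟨h0, h1, h2, h3, h4, h5, h6, h7⟩ := b2_bits (x (.inl 0)) (x (.inr 0)) (x (.inl 1))
    (x (.inr 1)) (x (.inl 2)) (x (.inr 2)) (x (.inl 3)) (x (.inr 3))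
  funext j
  rcases j with i | i <;> fin_cases i
  · exact h0
  · exact h2
  · exact h4
  · exact h6
  · exact h1
  · exact h3
  · exact h5
  · exact h7

theorem b2_xor (a b : Bool) : b2 (a ^^ b) = b2 a + b2 b := by
  cases a <;> cases b <;> decide

theorem ofN_xor (a b : ℕ) : ofN (a ^^^ b) = ofN a + ofN b := by
  funext j
  show b2 ((a ^^^ b).testBit (pos j)) = _
  rw [Nat.testBit_xor, b2_xor]
  rfl

theorem ofN_zero : ofN 0 = 0 := by
  funext j
  show b2 ((0 : ℕ).testBit (pos j)) = 0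
  rw [Nat.zero_testBit]
  rfl

theorem ofN_inj {a b : ℕ} (ha : a < 256) (hb : b < 256) (h : ofN a = ofN b) : a = b := by
  refine Nat.eq_of_testBit_eq fun i => ?_
  by_cases hi : i < 8
  · have hj : ∃ j : J8, pos j = i := by
      interval_cases i
      · exact ⟨.inl 0, rfl⟩
      · exact ⟨.inr 0, rfl⟩
      · exact ⟨.inl 1, rfl⟩
      · exact ⟨.inr 1, rfl⟩
      · exact ⟨.inl 2, rfl⟩
      · exact ⟨.inr 2, rfl⟩
      · exact ⟨.inl 3, rfl⟩
      · exact ⟨.inr 3, rfl⟩
    obtain ⟨j, rfl⟩ := hj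
    have h' := congrFun h j
    have inj : ∀ u v : Bool, b2 u = b2 v → u = v := by decide
    exact inj _ _ h'
  · have h8 : 256 ≤ 2 ^ i := (Nat.pow_le_pow_right (by norm_num : 0 < 2) (by omega : 8 ≤ i))
    rw [Nat.testBit_lt_two_pow (ha.trans_le h8), Nat.testBit_lt_two_pow (hb.trans_le h8)]

/-- The quadratic form on numbers. -/
def qN (n : ℕ) : Bool :=
  (n.testBit 0 && n.testBit 1) ^^ (n.testBit 2 && n.testBit 3) ^^
    (n.testBit 4 && n.testBit 5) ^^ (n.testBit 6 && n.testBit 7)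

/-- The polar form on numbers. -/
def pN (a b : ℕ) : Bool := qN (a ^^^ b) ^^ qN a ^^ qN b

theorem qm_ofN (n : ℕ) : qm (ofN n) = b2 (qN n) := by
  have hand : ∀ u v : Bool, b2 (u && v) = b2 u * b2 v := by decide
  rw [qm_apply, qN, b2_xor, b2_xor, b2_xor, hand, hand, hand, hand]
  rfl

theorem polar_ofN (a b : ℕ) : polar ⇑qm (ofN a) (ofN b) = b2 (pN a b) := by
  rw [polar, ← ofN_xor, qm_ofN, qm_ofN, qm_ofN, pN, b2_xor, b2_xor, sub_eq_add_neg, sub_eq_add_neg,
    ZModModule.neg_eq_self, ZModModule.neg_eq_self]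

/-- A reflection on numbers. -/
def rfN (d n : ℕ) : ℕ := if pN d n then n ^^^ d else n

/-- A product of reflections on numbers. -/
def prN (l : List ℕ) (n : ℕ) : ℕ := l.foldr rfN n

/-- The product of reflections. -/
noncomputable def prd (l : List ℕ) : IsoGrp qm := (l.map fun d => refl qm (ofN d)).prod

theorem ap_rfN {d : ℕ} (hd : qN d = true) (n : ℕ) :
    ap (refl qm (ofN d)) (ofN n) = ofN (rfN d n) := by
  rw [refl_ap, qm_ofN, hd, polar_ofN, show b2 true = (1 : ZMod 2) from rfl, inv_one, one_mul, rfN]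
  cases pN d n
  · rw [show b2 false = (0 : ZMod 2) from rfl, zero_smul, sub_zero]; rfl
  · rw [show b2 true = (1 : ZMod 2) from rfl, one_smul, if_pos rfl, ofN_xor, sub_eq_add_neg,
      ZModModule.neg_eq_self]

theorem ap_prd {l : List ℕ} (hl : ∀ d ∈ l, qN d = true) (n : ℕ) :
    ap (prd l) (ofN n) = ofN (prN l n) := by
  induction l with
  | nil => simp [prd, prN]
  | cons d l ih =>
    have e : prd (d :: l) = refl qm (ofN d) * prd l := List.prod_cons
    rw [e, ap_mul, ih (fun x hx => hl x (List.mem_cons_of_mem _ hx)),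
      ap_rfN (hl d List.mem_cons_self)]
    rfl

end Cfsg.Agent.CoFive
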