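/-
An element `β` of order five of `Ω⁺₈(2)` fixing a four-dimensional space of minus type, and the
isometry `σ` exchanging that space with its orthogonal (helper61).

* `s`, `e` : the five singular vectors of the fixed space, respectively of its orthogonal
* `β`, `σ`, `ν` and their relations
* `S0`, `S1` : the elements fixing all `e i`, respectively all `s i`; `equivS0`, `card_S0`, `card_S1`
-/
import Cfsg.Agent.Lib.CoFive.Bits
import Cfsg.Agent.Lib.CoType.Coord

set_option autoImplicit false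

namespace Cfsg.Agent.CoFive

open Cfsg.Agent.CoType Cfsg.Agent.Orth
open QuadraticMap (polar)

/-- The singular vectors of the fixed space, as numbers. -/
def sN : Fin 5 → ℕ := ![1, 2, 59, 55, 15]
/-- The singular vectors of the orthogonal space, as numbers. -/
def eN : Fin 5 → ℕ := ![128, 64, 240, 236, 220]
/-- Reflections giving `β`. -/
def betL : List ℕ := [192, 48, 176, 44]
/-- Reflections giving `σ`. -/
def sigL : List ℕ := [172, 142, 254, 196, 230, 50, 233, 171]
/-- Reflections giving `ν`. -/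
def nuL : List ℕ := [56, 192, 48, 92]

/-- The singular vectors of the fixed space. -/
def s (i : Fin 5) : V8 := ofN (sN i)
/-- The singular vectors of the orthogonal space. -/
def e (i : Fin 5) : V8 := ofN (eN i)
/-- The element of order five. -/
noncomputable def β : IsoGrp qm := prd betL
/-- The exchange. -/
noncomputable def σ : IsoGrp qm := prd sigL
/-- An element normalising `⟨β⟩`. -/
noncomputable def ν : IsoGrp qm := prd nuL

theorem qN_bet : ∀ d ∈ betL, qN d = true := by decide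
theorem qN_sig : ∀ d ∈ sigL, qN d = true := by decide
theorem qN_nu : ∀ d ∈ nuL, qN d = true := by decide

/-- Two numbers give one vector only if they agree. -/
theorem eq_of_all {g h : IsoGrp qm} (H : ∀ n < 256, ap g (ofN n) = ap h (ofN n)) : g = h :=
  ext_ap fun x => by
    have := H (toN x) (toN_lt x)
    rwa [ofN_toN] at this

theorem qm_ne {d : ℕ} (hd : qN d = true) : qm (ofN d) ≠ 0 := by
  rw [qm_ofN, hd]; exact one_ne_zero

theorem prd_mem {a b c d : ℕ} (ha : qN a = true) (hb : qN b = true) (hc : qN c = true)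
    (hd : qN d = true) : prd [a, b, c, d] ∈ Cfsg.Omega (ZMod 2) ⇑qm := by
  have := mul_mem (refl_mul_refl_mem (qm_ne ha) (qm_ne hb)) (refl_mul_refl_mem (qm_ne hc) (qm_ne hd))
  simpa [prd, mul_assoc] using this

theorem β_mem : β ∈ Cfsg.Omega (ZMod 2) ⇑qm :=
  prd_mem (by decide) (by decide) (by decide) (by decide)

theorem ν_mem : ν ∈ Cfsg.Omega (ZMod 2) ⇑qm :=
  prd_mem (by decide) (by decide) (by decide) (by decide)

theorem σ_mem : σ ∈ Cfsg.Omega (ZMod 2) ⇑qm := by
  have := mul_mem (prd_mem (a := 172) (b := 142) (c := 254) (d := 196) (by decide) (by decide) (by decide) (by decide))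
    (prd_mem (a := 230) (b := 50) (c := 233) (d := 171) (by decide) (by decide) (by decide) (by decide))
  simpa [σ, sigL, prd, mul_assoc] using this

theorem ap_β (n : ℕ) : ap β (ofN n) = ofN (prN betL n) := ap_prd qN_bet n
theorem ap_σ (n : ℕ) : ap σ (ofN n) = ofN (prN sigL n) := ap_prd qN_sig n
theorem ap_ν (n : ℕ) : ap ν (ofN n) = ofN (prN nuL n) := ap_prd qN_nu n

theorem σ_tab : ∀ n < 256, prN sigL (prN sigL n) = n := by decide +kernel
theorem β_tab : ∀ n < 256, prN betL (prN betL (prN betL (prN betL (prN betL n)))) = n := by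
  decide +kernel
theorem ν_tab : ∀ n < 256, prN nuL (prN betL n) = prN betL (prN betL (prN nuL n)) := by
  decide +kernel
theorem σβ_tab : ∀ n < 256,
    prN sigL (prN betL (prN sigL (prN betL n))) = prN betL (prN sigL (prN betL (prN sigL n))) := by
  decide +kernel
theorem σ_s_tab : ∀ i, prN sigL (sN i) = eN i := by decide +kernel
theorem β_e_tab : ∀ i : Fin 4, prN betL (eN i.castSucc) = eN i.succ := by decide +kernel

theorem σ_sq : σ * σ = 1 :=
  eq_of_all fun n hn => by rw [ap_mul, ap_σ, ap_σ, σ_tab n hn, ap_one]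

theorem β_five : β ^ 5 = 1 :=
  eq_of_all fun n hn => by
    simp only [pow_succ, pow_zero, one_mul, ap_mul, ap_β, β_tab n hn, ap_one]

theorem β_ne : β ≠ 1 := fun h => by
  have h' : ofN (prN betL (eN 0)) = ofN (eN 0) := by rw [← ap_β, h, ap_one]
  exact absurd (ofN_inj (by decide) (by decide) h') (by decide)

theorem ν_β : ν * β * ν⁻¹ = β ^ 2 := by
  refine mul_inv_eq_iff_eq_mul.mpr (eq_of_all fun n hn => ?_)
  simp only [pow_succ, pow_zero, one_mul, ap_mul, ap_β, ap_ν, ν_tab n hn]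

/-- The conjugate of `β` fixing the orthogonal space. -/
noncomputable def β' : IsoGrp qm := σ * β * σ

theorem β'_comm : β' * β = β * β' :=
  eq_of_all fun n hn => by simp only [β', ap_mul, ap_β, ap_σ, σβ_tab n hn]

theorem σ_inv : σ⁻¹ = σ := inv_eq_of_mul_eq_one_right σ_sq

theorem β'_eq : β' = σ * β * σ⁻¹ := by rw [β', σ_inv]

theorem σ_s (i : Fin 5) : ap σ (s i) = e i := by rw [s, ap_σ, σ_s_tab]; rfl

theorem σ_e (i : Fin 5) : ap σ (e i) = s i := by
  rw [← σ_s, ← ap_mul, σ_sq, ap_one]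

theorem β_e (i : Fin 4) : ap β (e i.castSucc) = e i.succ := by rw [e, ap_β, β_e_tab]; rfl

/-! ### The two spaces -/

/-- Lying in the fixed space. -/
def InW (x : V8) : Prop := ∀ i, polar ⇑qm x (e i) = 0

theorem b2_eq {b : Bool} : b2 b = 0 ↔ b = false := by cases b <;> decide
theorem b2_eq_one {b : Bool} : b2 b = 1 ↔ b = true := by cases b <;> decide

theorem inW_ofN {n : ℕ} : InW (ofN n) ↔ ∀ i, pN n (eN i) = false :=
  forall_congr' fun i => by rw [e, polar_ofN, b2_eq]

theorem fix_tab : ∀ n < 256, prN betL n = n ↔ ∀ i, pN n (eN i) = false := by decide +kernel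

theorem prN_lt_tab : ∀ n < 256, prN betL n < 256 := by decide +kernel

theorem fix_iff (x : V8) : ap β x = x ↔ InW x := by
  obtain ⟨n, hn, rfl⟩ : ∃ n < 256, ofN n = x := ⟨toN x, toN_lt x, ofN_toN x⟩
  rw [ap_β, inW_ofN, ← fix_tab n hn]
  exact ⟨fun h => ofN_inj (prN_lt_tab n hn) hn h, fun h => by rw [h]⟩

theorem inW_add {x y : V8} (hx : InW x) (hy : InW y) : InW (x + y) := fun i => by
  rw [pl_add_left, hx i, hy i, add_zero]

theorem sN_tab : ∀ i, sN i < 256 ∧ qN (sN i) = false ∧ ∀ j, pN (sN i) (eN j) = false := by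
  decide +kernel

theorem s_mem (i : Fin 5) : InW (s i) := inW_ofN.mpr (sN_tab i).2.2

theorem β_s (i : Fin 5) : ap β (s i) = s i := (fix_iff _).mpr (s_mem i)

theorem pN_se : ∀ i j, pN (sN i) (eN j) = false := fun i j => (sN_tab i).2.2 j

theorem polar_se (i j : Fin 5) : polar ⇑qm (s i) (e j) = 0 := s_mem i j

theorem qm_s (i : Fin 5) : qm (s i) = 0 := by rw [s, qm_ofN, (sN_tab i).2.1]; rfl

theorem qm_e (i : Fin 5) : qm (e i) = 0 := by rw [← σ_s, Q_ap, qm_s]

theorem ne_tab : ∀ i, sN i ≠ 0 ∧ eN i ≠ 0 ∧ eN i < 256 := by decide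

theorem s_ne (i : Fin 5) : s i ≠ 0 := fun h =>
  (ne_tab i).1 (ofN_inj (sN_tab i).1 (by norm_num) (h.trans ofN_zero.symm))

theorem s_inj : Function.Injective s := fun i j h => by
  have h' := ofN_inj (sN_tab i).1 (sN_tab j).1 h
  revert h'; revert i j; decide +kernel

theorem sing_tab : ∀ n < 256, n ≠ 0 → qN n = false → (∀ i, pN n (eN i) = false) →
    ∃ i, n = sN i := by
  decide +kernel

theorem exists_s {x : V8} (hx : x ≠ 0) (hq : qm x = 0) (hW : InW x) : ∃ i, x = s i := by
  obtain ⟨n, hn, rfl⟩ : ∃ n < 256, ofN n = x := ⟨toN x, toN_lt x, ofN_toN x⟩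
  rw [qm_ofN, b2_eq] at hq
  obtain ⟨i, rfl⟩ := sing_tab n hn (fun h => hx (by rw [h, ofN_zero])) hq (inW_ofN.mp hW)
  exact ⟨i, rfl⟩

theorem perp_tab : ∀ n < 256, (∀ i, pN n (sN i) = false) → (∀ i, pN n (eN i) = false) → n = 0 := by
  decide +kernel

theorem eq_zero_of_perp {x : V8} (h1 : ∀ i, polar ⇑qm x (s i) = 0) (h2 : InW x) : x = 0 := by
  obtain ⟨n, hn, rfl⟩ : ∃ n < 256, ofN n = x := ⟨toN x, toN_lt x, ofN_toN x⟩
  rw [perp_tab n hn (fun i => by have := h1 i; rwa [s, polar_ofN, b2_eq] at this) (inW_ofN.mp h2),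
    ofN_zero]

/-- The sum of the selected basis vectors. -/
def comb (k : ℕ) : ℕ :=
  (List.range 8).foldl (fun m i => if k.testBit i then m ^^^ [1, 2, 59, 55, 128, 64, 240, 236].getD i 0 else m) 0

theorem comb_tab : ∀ n < 256, ∃ k < 256, comb k = n := by decide +kernel

theorem eq_one_of_fix {g : IsoGrp qm} (hs : ∀ i, ap g (s i) = s i) (he : ∀ i, ap g (e i) = e i) :
    g = 1 := by
  refine eq_of_all fun n hn => ?_
  rw [ap_one]
  obtain ⟨k, -, rfl⟩ := comb_tab n hn
  have hb : ∀ i, ap g (ofN ([1, 2, 59, 55, 128, 64, 240, 236].getD i 0)) =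
      ofN ([1, 2, 59, 55, 128, 64, 240, 236].getD i 0) := by
    intro i
    match i with
    | 0 => exact hs 0
    | 1 => exact hs 1
    | 2 => exact hs 2
    | 3 => exact hs 3
    | 4 => exact he 0
    | 5 => exact he 1
    | 6 => exact he 2
    | 7 => exact he 3
    | i + 8 => simp [ofN_zero]
  have : ∀ (L : List ℕ) (m : ℕ), ap g (ofN m) = ofN m →
      ap g (ofN (L.foldl (fun m i => if k.testBit i then m ^^^ [1, 2, 59, 55, 128, 64, 240, 236].getD i 0 else m) m)) =
        ofN (L.foldl (fun m i => if k.testBit i then m ^^^ [1, 2, 59, 55, 128, 64, 240, 236].getD i 0 else m) m) := by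
    intro L
    induction L with
    | nil => exact fun m hm => hm
    | cons a L ih =>
      intro m hm
      refine ih _ ?_
      show ap g (ofN (if k.testBit a then m ^^^ [1, 2, 59, 55, 128, 64, 240, 236].getD a 0 else m)) = ofN (if k.testBit a then m ^^^ [1, 2, 59, 55, 128, 64, 240, 236].getD a 0 else m)
      split
      · rw [ofN_xor, map_add, hm, hb a]
      · exact hm
  exact this _ 0 (by rw [ofN_zero, map_zero])

/-! ### The point groups -/

/-- Elements of the isometry group fixing all `e i`. -/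
noncomputable def F0 : Subgroup (IsoGrp qm) where
  carrier := {g | ∀ i, ap g (e i) = e i}
  one_mem' i := ap_one _
  mul_mem' {g h} hg hh i := by rw [ap_mul, hh i, hg i]
  inv_mem' {g} hg i := ap_inj g (by rw [ap_ap_inv, hg i])

theorem mem_F0 {g : IsoGrp qm} : g ∈ F0 ↔ ∀ i, ap g (e i) = e i := Iff.rfl

theorem inW_ap {g : IsoGrp qm} (hg : g ∈ F0) {x : V8} (hx : InW x) : InW (ap g x) := fun i => by
  rw [← hg i, polar_ap]; exact hx i

theorem exists_perm (g : F0) (i : Fin 5) : ∃ j, ap (g : IsoGrp qm) (s i) = s j :=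
  exists_s (fun h => s_ne i (ap_inj (g : IsoGrp qm) (by rw [h, map_zero])))
    (by rw [Q_ap, qm_s]) (inW_ap g.2 (s_mem i))

/-- The permutation of the five singular vectors. -/
noncomputable def pfun (g : F0) (i : Fin 5) : Fin 5 := (exists_perm g i).choose

theorem pfun_spec (g : F0) (i : Fin 5) : ap (g : IsoGrp qm) (s i) = s (pfun g i) :=
  (exists_perm g i).choose_spec

theorem pfun_mul (g h : F0) (i : Fin 5) : pfun (g * h) i = pfun g (pfun h i) :=
  s_inj (by rw [← pfun_spec, Subgroup.coe_mul, ap_mul, pfun_spec, pfun_spec])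

theorem pfun_one (i : Fin 5) : pfun 1 i = i :=
  s_inj (by rw [← pfun_spec, Subgroup.coe_one, ap_one])

/-- The action on the five singular vectors. -/
noncomputable def φ : F0 →* Equiv.Perm (Fin 5) where
  toFun g := ⟨pfun g, pfun g⁻¹, fun i => by rw [← pfun_mul, inv_mul_cancel, pfun_one],
    fun i => by rw [← pfun_mul, mul_inv_cancel, pfun_one]⟩
  map_one' := Equiv.ext pfun_one
  map_mul' g h := Equiv.ext (pfun_mul g h)

theorem φ_spec (g : F0) (i : Fin 5) : ap (g : IsoGrp qm) (s i) = s (φ g i) := pfun_spec g i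

theorem φ_inj : Function.Injective φ := (injective_iff_map_eq_one φ).mpr fun g hg =>
  Subtype.ext (eq_one_of_fix (fun i => by rw [φ_spec, hg]; rfl) g.2)

theorem swap_tab : ∀ i j : Fin 5, i ≠ j → qN (sN i ^^^ sN j) = true ∧
    ∀ k, rfN (sN i ^^^ sN j) (sN k) = sN (Equiv.swap i j k) ∧ rfN (sN i ^^^ sN j) (eN k) = eN k := by
  decide +kernel

theorem exists_pre (π : Equiv.Perm (Fin 5)) :
    ∃ g : F0, φ g = π ∧ ((g : IsoGrp qm) ∈ Cfsg.Omega (ZMod 2) ⇑qm ↔ Equiv.Perm.sign π = 1) := by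
  induction π using Equiv.Perm.swap_induction_on with
  | one => exact ⟨1, map_one φ, by simp⟩
  | @swap_mul f x y hxy ih =>
    obtain ⟨g, hg, hgΩ⟩ := ih
    obtain ⟨hq, ht⟩ := swap_tab x y hxy
    have hr : refl qm (ofN (sN x ^^^ sN y)) ∈ F0 := fun k => by
      rw [e, ap_rfN hq, (ht k).2]
    refine ⟨⟨_, hr⟩ * g, ?_, ?_⟩
    · rw [map_mul, hg]
      congr 1
      refine Equiv.ext fun k => s_inj ?_
      rw [← φ_spec]
      show ap (refl qm _) (ofN (sN k)) = _
      rw [ap_rfN hq, (ht k).1]; rfl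
    · rw [Subgroup.coe_mul, Subgroup.mul_mem_iff_of_index_two index_omega, hgΩ, map_mul,
        Equiv.Perm.sign_swap hxy]
      have hn := refl_not_mem (qm_ne hq)
      rcases Int.units_eq_one_or (Equiv.Perm.sign f) with h | h <;> rw [h] <;> simp [hn]

/-- The elements of `Ω` fixing all `e i`. -/
noncomputable def S0 : Subgroup (IsoGrp qm) := F0 ⊓ Cfsg.Omega (ZMod 2) ⇑qm

/-- The elements of `Ω` fixing all `s i`. -/
noncomputable def S1 : Subgroup (IsoGrp qm) := S0.map (MulAut.conj σ).toMonoidHom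

theorem mem_S0 {g : IsoGrp qm} :
    g ∈ S0 ↔ (∀ i, ap g (e i) = e i) ∧ g ∈ Cfsg.Omega (ZMod 2) ⇑qm := Iff.rfl

theorem sign_φ (g : F0) :
    (g : IsoGrp qm) ∈ Cfsg.Omega (ZMod 2) ⇑qm ↔ Equiv.Perm.sign (φ g) = 1 := by
  obtain ⟨g', hg', h⟩ := exists_pre (φ g)
  rwa [φ_inj hg'] at h

/-- `S0` is the alternating group of the five vectors. -/
noncomputable def toAlt : S0 →* alternatingGroup (Fin 5) :=
  (φ.comp (Subgroup.inclusion inf_le_left)).codRestrict _ fun g =>
    Equiv.Perm.mem_alternatingGroup.mpr ((sign_φ _).mp g.2.2)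

theorem toAlt_spec (g : S0) (i : Fin 5) :
    ap (g : IsoGrp qm) (s i) = s ((toAlt g : Equiv.Perm (Fin 5)) i) :=
  φ_spec (Subgroup.inclusion inf_le_left g) i

theorem toAlt_bij : Function.Bijective toAlt := by
  constructor
  · intro g h hgh
    have h' := φ_inj (congrArg Subtype.val hgh)
    exact Subgroup.inclusion_injective _ h'
  · rintro ⟨π, hπ⟩
    obtain ⟨g, hg, hΩ⟩ := exists_pre π
    exact ⟨⟨g, g.2, hΩ.mpr (Equiv.Perm.mem_alternatingGroup.mp hπ)⟩, Subtype.ext hg⟩

/-- The identification of `S0`. -/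
noncomputable def equivS0 : S0 ≃* alternatingGroup (Fin 5) :=
  MulEquiv.ofBijective toAlt toAlt_bij

/-- The identification of `S1`. -/
noncomputable def equivS1 : S1 ≃* alternatingGroup (Fin 5) :=
  (S0.equivMapOfInjective (MulAut.conj σ).toMonoidHom (MulAut.conj σ).injective).symm.trans equivS0

theorem mem_S1 {g : IsoGrp qm} :
    g ∈ S1 ↔ (∀ i, ap g (s i) = s i) ∧ g ∈ Cfsg.Omega (ZMod 2) ⇑qm := by
  constructor
  · rintro ⟨h, ⟨hh, hΩ⟩, rfl⟩
    refine ⟨fun i => ?_, mul_mem (mul_mem σ_mem hΩ) (inv_mem σ_mem)⟩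
    show ap (σ * h * σ⁻¹) (s i) = s i
    rw [σ_inv, ap_mul, ap_mul, σ_s, mem_F0.mp hh i, σ_e]
  · rintro ⟨hg, hΩ⟩
    refine ⟨σ * g * σ, ⟨fun i => ?_, mul_mem (mul_mem σ_mem hΩ) σ_mem⟩, ?_⟩
    · rw [ap_mul, ap_mul, σ_e, hg, σ_s]
    · show σ * (σ * g * σ) * σ⁻¹ = g
      rw [σ_inv, ← mul_assoc, ← mul_assoc, σ_sq, one_mul, mul_assoc, σ_sq, mul_one]

theorem card_alt_five : Nat.card (alternatingGroup (Fin 5)) = 60 := by
  rw [Nat.card_eq_fintype_card]; decide +kernel

theorem card_S0 : Nat.card S0 = 60 :=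
  (Nat.card_congr equivS0.toEquiv).trans card_alt_five

theorem card_S1 : Nat.card S1 = 60 :=
  (Nat.card_congr equivS1.toEquiv).trans card_alt_five

end Cfsg.Agent.CoFive
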