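/-
Centraliser and conjugates of `β`, and the other facts evaluated on numbers (helper61).

* `centralizer_β` : `C_Ω(β) = ⟨β⟩ S0`
* `exists_conj_β` : an element of order five of `Ω` fixing a nonzero vector is conjugate to a power of `β`
* `dual_s`, `dual_e`, `exists_pairs`, `exists_nd` : linear facts
* `card_Y_le` : the elements fixing `s 0`, `A0`, `W0` number at most `960`
-/
import Cfsg.Agent.Lib.CoFive.Model

set_option autoImplicit false

namespace Cfsg.Agent.CoFive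

open Cfsg.Agent.CoType Cfsg.Agent.Orth
open QuadraticMap (polar)

theorem sing_e_tab : ∀ n < 256, n ≠ 0 → qN n = false → (∀ i, pN n (sN i) = false) →
    ∃ i, n = eN i := by
  decide +kernel

theorem exists_e {x : V8} (hx : x ≠ 0) (hq : qm x = 0) (hW : ∀ i, polar ⇑qm x (s i) = 0) :
    ∃ i, x = e i := by
  obtain ⟨n, hn, rfl⟩ : ∃ n < 256, ofN n = x := ⟨toN x, toN_lt x, ofN_toN x⟩
  rw [qm_ofN, b2_eq] at hq
  obtain ⟨i, rfl⟩ := sing_e_tab n hn (fun h => hx (by rw [h, ofN_zero])) hq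
    (fun i => by have := hW i; rwa [s, polar_ofN, b2_eq] at this)
  exact ⟨i, rfl⟩

theorem pow_β_e0 : ∀ i : Fin 5, ap (β ^ (i : ℕ)) (e 0) = e i := by
  have h1 : ap β (e 0) = e 1 := β_e 0
  have h2 : ap β (e 1) = e 2 := β_e 1
  have h3 : ap β (e 2) = e 3 := β_e 2
  have h4 : ap β (e 3) = e 4 := β_e 3
  intro i
  fin_cases i <;> simp [pow_succ', h1, h2, h3, h4]

/-- The centraliser of `β`. -/
theorem centralizer_β {ω : IsoGrp qm} (hΩ : ω ∈ Cfsg.Omega (ZMod 2) ⇑qm) (hc : ω * β = β * ω) :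
    ∃ k : ℕ, (β ^ k)⁻¹ * ω ∈ S0 := by
  have hW : ∀ i, polar ⇑qm (ap ω (e 0)) (s i) = 0 := by
    intro i
    have hy : ap β (ap ω⁻¹ (s i)) = ap ω⁻¹ (s i) := by
      refine ap_inj ω ?_
      rw [← ap_mul, hc, ap_mul, ap_ap_inv, β_s]
    calc polar ⇑qm (ap ω (e 0)) (s i) = polar ⇑qm (ap ω (e 0)) (ap ω (ap ω⁻¹ (s i))) := by
          rw [ap_ap_inv]
      _ = polar ⇑qm (e 0) (ap ω⁻¹ (s i)) := polar_ap _ _ _
      _ = 0 := by rw [pl_comm]; exact (fix_iff _).mp hy 0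
  obtain ⟨k, hk⟩ := exists_e (x := ap ω (e 0))
    (fun h => s_ne 0 (by
      have h0 : e 0 = 0 := ap_inj ω (by rw [h, map_zero])
      rw [← σ_e, h0, map_zero]))
    (by rw [Q_ap, qm_e]) hW
  refine ⟨k, mem_S0.mpr ⟨fun i => ?_, mul_mem (inv_mem (pow_mem β_mem _)) hΩ⟩⟩
  have hcm : Commute ω β := hc
  rw [ap_mul, ← pow_β_e0 i, ← ap_mul ω, (hcm.pow_right _).eq, ap_mul, hk, ← pow_β_e0 k,
    ← ap_mul (β ^ (i : ℕ)), ← pow_add, ← ap_mul, add_comm, pow_add, inv_mul_cancel_left]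

theorem diag_tab : ∀ n < 256,
    prN sigL (prN betL (prN sigL (n ^^^ prN betL n))) = n ^^^ prN betL n := by
  decide +kernel

theorem fix_both_tab : ∀ n < 256, prN betL n = n → prN sigL (prN betL (prN sigL n)) = n → n = 0 := by
  decide +kernel

theorem ap_β' (n : ℕ) : ap β' (ofN n) = ofN (prN sigL (prN betL (prN sigL n))) := by
  rw [β', ap_mul, ap_mul, ap_σ, ap_β, ap_σ]

theorem lt_tab' : ∀ n < 256, prN sigL (prN betL (prN sigL n)) < 256 := by
  decide +kernel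

theorem β'_diff (x : V8) : ap β' (x + ap β x) = x + ap β x := by
  obtain ⟨n, hn, rfl⟩ : ∃ n < 256, ofN n = x := ⟨toN x, toN_lt x, ofN_toN x⟩
  rw [ap_β, ← ofN_xor, ap_β', diag_tab n hn]

theorem eq_zero_of_fix_both {x : V8} (h1 : ap β x = x) (h2 : ap β' x = x) : x = 0 := by
  obtain ⟨n, hn, rfl⟩ : ∃ n < 256, ofN n = x := ⟨toN x, toN_lt x, ofN_toN x⟩
  rw [ap_β] at h1
  rw [ap_β'] at h2
  rw [fix_both_tab n hn (ofN_inj (prN_lt_tab n hn) hn h1) (ofN_inj (lt_tab' n hn) hn h2),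
    ofN_zero]

theorem β'_five : β' ^ 5 = 1 := by
  rw [β'_eq, conj_pow, β_five, mul_one, mul_inv_cancel]

theorem β'_ne : β' ≠ 1 := fun h => β_ne (by
  rw [β'_eq] at h
  exact conj_eq_one_iff.mp h)

theorem β'_mem : β' ∈ Cfsg.Omega (ZMod 2) ⇑qm :=
  mul_mem (mul_mem σ_mem β_mem) σ_mem

theorem ap_pow_fix {g : IsoGrp qm} {x : V8} (h : ap g x = x) (n : ℕ) : ap (g ^ n) x = x := by
  induction n with
  | zero => simp
  | succ n ih => rw [pow_succ, ap_mul, h, ih]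

theorem fix_of_pow {g : IsoGrp qm} (h5 : g ^ 5 = 1) {x : V8} {i : ℕ} (hi : ¬ 5 ∣ i)
    (h : ap (g ^ i) x = x) : ap g x = x := by
  have h1 := ap_pow_fix h
  obtain ⟨m, hm⟩ : ∃ m, i * m % 5 = 1 := by
    have h4 : i % 5 = 1 ∨ i % 5 = 2 ∨ i % 5 = 3 ∨ i % 5 = 4 := by omega
    rcases h4 with e | e | e | e
    · exact ⟨1, by omega⟩
    · exact ⟨3, by omega⟩
    · exact ⟨2, by omega⟩
    · exact ⟨4, by omega⟩
  have h2 := h1 m
  rw [← pow_mul, ← Nat.div_add_mod (i * m) 5, hm, pow_add, pow_mul, h5, one_pow, one_mul,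
    pow_one] at h2
  exact h2

theorem pair_fix {i j : ℕ} (hi : ¬ 5 ∣ i) (hj : ¬ 5 ∣ j) {x : V8}
    (h : ap (β ^ i * β' ^ j) x = x) : x = 0 := by
  have hcom : Commute β' β := β'_comm
  have hy : ap (β ^ i * β' ^ j) (x + ap β x) = x + ap β x := by
    rw [map_add, h, ← ap_mul (β ^ i * β' ^ j),
      (((Commute.refl β).pow_left i).mul_left (hcom.pow_left j)).eq, ap_mul, h]
  have hx : ap β x = x := by
    have hy2 : ap (β ^ i) (x + ap β x) = x + ap β x := by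
      rwa [ap_mul, ap_pow_fix (β'_diff x)] at hy
    have h0 := eq_zero_of_fix_both (fix_of_pow β_five hi hy2) (β'_diff x)
    exact (add_eq_zero_iff_eq_neg.mp h0).trans (ZModModule.neg_eq_self _) |>.symm
  rw [ap_mul] at h
  have h2 : ap (β' ^ j) x = x := by
    refine ap_inj (β ^ i) ?_
    rw [h, ap_pow_fix hx]
  exact eq_zero_of_fix_both hx (fix_of_pow β'_five hj h2)

theorem card_omega_factor : (Nat.card ↥(Cfsg.Omega (ZMod 2) ⇑qm)).factorization 5 = 2 := by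
  rw [card_omega, show (174182400 : ℕ) = 5 ^ 2 * 6967296 from rfl,
    Nat.factorization_mul (by norm_num) (by norm_num), Finsupp.add_apply,
    Nat.Prime.factorization_pow (by norm_num), Finsupp.single_eq_same,
    Nat.factorization_eq_zero_of_not_dvd (by norm_num)]

/-- An element of order five fixing a nonzero vector is conjugate to a power of `β`. -/
theorem exists_conj_β {f : IsoGrp qm} (hΩ : f ∈ Cfsg.Omega (ZMod 2) ⇑qm) (h5 : f ^ 5 = 1)
    {x : V8} (hx0 : x ≠ 0) (hx : ap f x = x) :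
    ∃ ω ∈ Cfsg.Omega (ZMod 2) ⇑qm, ∃ i : ℕ, ω * f * ω⁻¹ = β ^ i := by
  classical
  haveI : Fact (Nat.Prime 5) := ⟨by norm_num⟩
  have hcom : Commute β β' := β'_comm.symm
  let P : Subgroup (Cfsg.Omega (ZMod 2) ⇑qm) :=
    { carrier := {g | ∃ i j : ℕ, (g : IsoGrp qm) = β ^ i * β' ^ j}
      one_mem' := ⟨0, 0, by simp⟩
      mul_mem' := by
        rintro g h ⟨i, j, hg⟩ ⟨k, l, hh⟩
        refine ⟨i + k, j + l, ?_⟩
        rw [Subgroup.coe_mul, hg, hh, pow_add, pow_add,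
          (hcom.pow_pow k j).symm.mul_mul_mul_comm]
      inv_mem' := by
        rintro g ⟨i, j, hg⟩
        refine ⟨4 * i, 4 * j, ?_⟩
        rw [Subgroup.coe_inv, hg]
        refine inv_eq_of_mul_eq_one_right ?_
        rw [(hcom.pow_pow (4 * i) j).symm.mul_mul_mul_comm, ← pow_add, ← pow_add,
          show i + 4 * i = 5 * i by ring, show j + 4 * j = 5 * j by ring, pow_mul, pow_mul, β_five,
          β'_five, one_pow, one_pow, one_mul] }
  have hP : IsPGroup 5 P := by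
    intro g
    obtain ⟨i, j, hg⟩ := g.2
    refine ⟨1, Subtype.ext (Subtype.ext ?_)⟩
    rw [pow_one]
    show ((g : Cfsg.Omega (ZMod 2) ⇑qm) : IsoGrp qm) ^ 5 = 1
    rw [hg, (hcom.pow_pow i j).mul_pow, ← pow_mul, ← pow_mul, mul_comm i, mul_comm j, pow_mul,
      pow_mul, β_five, β'_five, one_pow, one_pow, one_mul]
  obtain ⟨S, hS⟩ := hP.exists_le_sylow
  have hmem : ∀ i j : ℕ, β ^ i * β' ^ j ∈ Cfsg.Omega (ZMod 2) ⇑qm := fun i j =>
    mul_mem (pow_mem β_mem i) (pow_mem β'_mem j)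
  let ι : Fin 5 × Fin 5 → P := fun a => ⟨⟨β ^ (a.1 : ℕ) * β' ^ (a.2 : ℕ), hmem _ _⟩, a.1, a.2, rfl⟩
  have hι : Function.Injective ι := by
    rintro ⟨i, j⟩ ⟨k, l⟩ h
    have h' : β ^ (i : ℕ) * β' ^ (j : ℕ) = β ^ (k : ℕ) * β' ^ (l : ℕ) :=
      congrArg (fun g : P => ((g : Cfsg.Omega (ZMod 2) ⇑qm) : IsoGrp qm)) h
    have hs : ∀ i : ℕ, ap (β' ^ i) (e 0) = e 0 := fun i => ap_pow_fix (by
      rw [β', ap_mul, ap_mul, σ_e, β_s, σ_s]) i
    have h0 := congrArg (fun g => ap g (e 0)) h'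
    simp only [ap_mul, hs, pow_β_e0] at h0
    have he : Function.Injective e := fun a b hab => s_inj (by rw [← σ_e, hab, σ_e])
    obtain rfl := he h0
    have h1 := mul_left_cancel h'
    rw [β'_eq, conj_pow, conj_pow] at h1
    have h2 := mul_left_cancel (mul_right_cancel h1)
    have h3 := congrArg (fun g => ap g (e 0)) h2
    simp only [pow_β_e0] at h3
    rw [he h3]
  have hPS : P = (S : Subgroup _) := by
    refine Subgroup.eq_of_le_of_card_ge hS ?_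
    rw [S.card_eq_multiplicity, card_omega_factor]
    calc 5 ^ 2 = Nat.card (Fin 5 × Fin 5) := by simp
      _ ≤ Nat.card P := Nat.card_le_card_of_injective ι hι
  have hF : IsPGroup 5 (Subgroup.zpowers (⟨f, hΩ⟩ : Cfsg.Omega (ZMod 2) ⇑qm)) := by
    rintro ⟨g, k, rfl⟩
    refine ⟨1, Subtype.ext (Subtype.ext ?_)⟩
    rw [pow_one]
    show (f ^ k) ^ 5 = 1
    rw [← zpow_natCast, ← zpow_mul, mul_comm, zpow_mul, zpow_natCast, h5, one_zpow]
  obtain ⟨S', hS'⟩ := hF.exists_le_sylow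
  obtain ⟨w, hw⟩ := MulAction.exists_smul_eq (Cfsg.Omega (ZMod 2) ⇑qm) S' S
  have hm : w * ⟨f, hΩ⟩ * w⁻¹ ∈ (S : Subgroup _) := by
    rw [← hw]
    exact ⟨⟨f, hΩ⟩, hS' (Subgroup.mem_zpowers _), rfl⟩
  rw [← hPS] at hm
  obtain ⟨i, j, hij⟩ := hm
  have hij' : (w : IsoGrp qm) * f * (w : IsoGrp qm)⁻¹ = β ^ i * β' ^ j := hij
  have hy : ap (β ^ i * β' ^ j) (ap (w : IsoGrp qm) x) = ap (w : IsoGrp qm) x := by
    rw [← hij', ap_mul, ap_mul, ap_inv_ap, hx]
  by_cases hj : 5 ∣ j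
  · obtain ⟨m, rfl⟩ := hj
    exact ⟨w, w.2, i, by rw [hij', pow_mul, β'_five, one_pow, mul_one]⟩
  by_cases hi : 5 ∣ i
  · obtain ⟨m, rfl⟩ := hi
    refine ⟨σ * w, mul_mem σ_mem w.2, j, ?_⟩
    rw [pow_mul, β_five, one_pow, one_mul, β'_eq, conj_pow] at hij'
    calc σ * (w : IsoGrp qm) * f * (σ * (w : IsoGrp qm))⁻¹
        = σ * ((w : IsoGrp qm) * f * (w : IsoGrp qm)⁻¹) * σ⁻¹ := by group
      _ = (σ * σ) * β ^ j * (σ * σ)⁻¹ := by rw [hij']; group
      _ = β ^ j := by rw [σ_sq]; group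
  exact absurd (ap_inj (w : IsoGrp qm) ((pair_fix hi hj hy).trans (map_zero _).symm)) hx0

/-- Selection of a functional by a mask. -/
theorem dual_tab : ∀ m < 16, ∃ n < 256,
    (∀ i : Fin 5, pN n (eN i) = false) ∧ ∀ i : Fin 4, pN n (sN i.castSucc) = Nat.testBit m i := by
  decide +kernel

theorem exists_mask : ∀ l : Fin 4 → ZMod 2, ∃ m < 16, ∀ i : Fin 4, l i = b2 (Nat.testBit m i) := by
  decide +kernel

/-- Functionals on the fixed space are given by its vectors. -/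
theorem dual_s (l : Fin 4 → ZMod 2) :
    ∃ w, InW w ∧ ∀ i : Fin 4, polar ⇑qm w (s i.castSucc) = l i := by
  obtain ⟨m, hm, hl⟩ := exists_mask l
  obtain ⟨n, -, h1, h2⟩ := dual_tab m hm
  exact ⟨ofN n, inW_ofN.mpr h1, fun i => by rw [s, polar_ofN, h2, hl]⟩

theorem dual_e (l : Fin 4 → ZMod 2) :
    ∃ w, (∀ i, polar ⇑qm w (s i) = 0) ∧ ∀ i : Fin 4, polar ⇑qm w (e i.castSucc) = l i := by
  obtain ⟨w, hw, hl⟩ := dual_s l
  refine ⟨ap σ w, fun i => ?_, fun i => ?_⟩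
  · rw [← σ_e, polar_ap]; exact hw i
  · rw [← σ_s, polar_ap]; exact hl i

theorem pairs_tab : ∀ n < 256, (∀ i, pN n (eN i) = false) →
    ∃ i j k l : Fin 5, n = (sN i ^^^ sN j) ^^^ (sN k ^^^ sN l) := by
  decide +kernel

/-- Every fixed vector is a sum of two sums of pairs. -/
theorem exists_pairs {x : V8} (hx : InW x) :
    ∃ i j k l : Fin 5, x = (s i + s j) + (s k + s l) := by
  obtain ⟨n, hn, rfl⟩ : ∃ n < 256, ofN n = x := ⟨toN x, toN_lt x, ofN_toN x⟩
  obtain ⟨i, j, k, l, rfl⟩ := pairs_tab n hn (inW_ofN.mp hx)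
  exact ⟨i, j, k, l, by simp only [s, ofN_xor]⟩

/-- An element of `S0` moving one singular vector to another. -/
theorem exists_move_s (i j : Fin 5) : ∃ g ∈ S0, ap g (s i) = s j := by
  have h : ∀ i j : Fin 5, ∃ k : Fin 5, (finRotate 5 ^ (k : ℕ)) i = j := by decide +kernel
  have hs : Equiv.Perm.sign (finRotate 5) = 1 := by decide +kernel
  obtain ⟨k, hk⟩ := h i j
  let π : alternatingGroup (Fin 5) :=
    ⟨finRotate 5 ^ (k : ℕ), pow_mem (Equiv.Perm.mem_alternatingGroup.mpr hs) _⟩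
  refine ⟨_, (equivS0.symm π).2, ?_⟩
  rw [toAlt_spec, show toAlt (equivS0.symm π) = π from equivS0.apply_symm_apply π]
  exact congrArg s hk

theorem nd_tab : ∀ n < 256, n ≠ 0 → (∀ i, pN n (eN i) = false) → ∃ j, pN n (sN j) = true := by
  decide +kernel

/-- The fixed space is nondegenerate. -/
theorem exists_nd {x : V8} (h0 : x ≠ 0) (hx : InW x) : ∃ j, polar ⇑qm x (s j) = 1 := by
  obtain ⟨n, hn, rfl⟩ : ∃ n < 256, ofN n = x := ⟨toN x, toN_lt x, ofN_toN x⟩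
  obtain ⟨j, hj⟩ := nd_tab n hn (fun h => h0 (by rw [h, ofN_zero])) (inW_ofN.mp hx)
  exact ⟨j, by rw [s, polar_ofN, hj]; rfl⟩

theorem A0_num : io A0 = ofN 56 := by decide +kernel
theorem W0_num : io W0 = ofN 12 := by decide +kernel
theorem v0_num : v0 = s 0 := by decide +kernel
theorem p0_num : p0 = s 1 := by decide +kernel

theorem T_tab : ∀ n < 256, qN n = false → pN n 1 = true → pN n 56 = false → pN n 12 = false →
    n ∈ (List.range 256).filter fun n => !qN n && pN n 1 && !pN n 56 && !pN n 12 := by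
  intro n hn h1 h2 h3 h4
  simp [List.mem_filter, hn, h1, h2, h3, h4]

theorem T_len :
    ((List.range 256).filter fun n => !qN n && pN n 1 && !pN n 56 && !pN n 12).length = 16 := by
  decide +kernel

theorem s_comb : ∀ i : Fin 5, ∃ a b c d : ZMod 2,
    s i = a • s 0 + b • s 1 + c • io A0 + d • io W0 := by
  decide +kernel

/-- Elements fixing `v0`, `A0`, `W0`. -/
theorem card_Y_le (Y : Subgroup (IsoGrp qm)) (hΩ : Y ≤ Cfsg.Omega (ZMod 2) ⇑qm)
    (h : ∀ g ∈ Y, ap g v0 = v0 ∧ ap g (io A0) = io A0 ∧ ap g (io W0) = io W0) :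
    Nat.card Y ≤ 16 * 60 := by
  classical
  set L := (List.range 256).filter fun n => !qN n && pN n 1 && !pN n 56 && !pN n 12 with hL
  have hv1 : polar ⇑qm v0 p0 = 1 := by rw [polar_v0, cp_p0]
  have hpA : polar ⇑qm (io A0) p0 = 0 := by rw [polar_io, pu_p0, bU_zero_right]
  have hpW : polar ⇑qm (io W0) p0 = 0 := by rw [polar_io, pu_p0, bU_zero_right]
  have hval : ∀ g ∈ Y, toN (ap g p0) ∈ L.toFinset := by
    intro g hg
    obtain ⟨h1, h2, h3⟩ := h g hg
    rw [List.mem_toFinset]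
    refine T_tab _ (toN_lt _) ?_ ?_ ?_ ?_
    · rw [← b2_eq, ← qm_ofN, ofN_toN, Q_ap, qm_eq, cv_p0, pu_p0, qU_zero, zero_mul, add_zero]
    · rw [← b2_eq_one, ← polar_ofN, ofN_toN, pl_comm, show ofN 1 = v0 from v0_num.symm]
      conv_lhs => rw [← h1]
      rw [polar_ap, hv1]
    · rw [← b2_eq, ← polar_ofN, ofN_toN, pl_comm, ← A0_num]
      conv_lhs => rw [← h2]
      rw [polar_ap, hpA]
    · rw [← b2_eq, ← polar_ofN, ofN_toN, pl_comm, ← W0_num]
      conv_lhs => rw [← h3]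
      rw [polar_ap, hpW]
  haveI : Fintype Y := Fintype.ofFinite _
  rw [Nat.card_eq_fintype_card, ← Finset.card_univ]
  calc (Finset.univ : Finset Y).card
      ≤ 60 * L.toFinset.card := by
        refine Finset.card_le_mul_card_image_of_maps_to (f := fun g : Y => toN (ap (g : IsoGrp qm) p0))
          (fun g _ => hval g g.2) 60 fun b _ => ?_
        by_cases hne : (Finset.univ.filter fun g : Y => toN (ap (g : IsoGrp qm) p0) = b) = ∅
        · rw [hne]; simp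
        obtain ⟨g₀, hg₀⟩ := Finset.nonempty_iff_ne_empty.mpr hne
        rw [← card_S1, ← Nat.card_eq_finsetCard]
        refine Nat.card_le_card_of_injective (fun g => ⟨(g₀ : IsoGrp qm)⁻¹ * (g.1 : IsoGrp qm), ?_⟩) ?_
        · obtain ⟨g, hg⟩ := g
          have e0 := (Finset.mem_filter.mp hg₀).2
          have e1 := (Finset.mem_filter.mp hg).2
          have ep : ap (g : IsoGrp qm) p0 = ap (g₀ : IsoGrp qm) p0 := by
            rw [← ofN_toN (ap (g : IsoGrp qm) p0), e1, ← e0, ofN_toN]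
          obtain ⟨a1, a2, a3⟩ := h g₀ g₀.2
          obtain ⟨b1, b2', b3⟩ := h g g.2
          refine mem_S1.mpr ⟨fun i => ?_, mul_mem (inv_mem (hΩ g₀.2)) (hΩ g.2)⟩
          have c1 : ap ((g₀ : IsoGrp qm)⁻¹ * (g : IsoGrp qm)) v0 = v0 :=
            ap_inj (g₀ : IsoGrp qm) (by rw [ap_mul, ap_ap_inv, b1, a1])
          have c2 : ap ((g₀ : IsoGrp qm)⁻¹ * (g : IsoGrp qm)) (io A0) = io A0 :=
            ap_inj (g₀ : IsoGrp qm) (by rw [ap_mul, ap_ap_inv, b2', a2])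
          have c3 : ap ((g₀ : IsoGrp qm)⁻¹ * (g : IsoGrp qm)) (io W0) = io W0 :=
            ap_inj (g₀ : IsoGrp qm) (by rw [ap_mul, ap_ap_inv, b3, a3])
          have c4 : ap ((g₀ : IsoGrp qm)⁻¹ * (g : IsoGrp qm)) p0 = p0 := by
            rw [ap_mul, ep, ap_inv_ap]
          rw [v0_num] at c1
          rw [p0_num] at c4
          obtain ⟨a, b, c, d, hi⟩ := s_comb i
          rw [hi, map_add, map_add, map_add, map_smul, map_smul, map_smul, map_smul, c1, c4, c2, c3]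
        · rintro ⟨g, hg⟩ ⟨g', hg'⟩ hgg
          exact Subtype.ext (Subtype.ext (mul_left_cancel (congrArg Subtype.val hgg)))
    _ = 16 * 60 := by
        rw [List.toFinset_card_of_nodup (List.Nodup.filter _ List.nodup_range), T_len]

end Cfsg.Agent.CoFive
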