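/-
Elements of order five of a group of Conway type acting on the radical as `β` (helper61).

* `Std` : the data; `R` the fixed points in the radical
* `M0`, `M1` : centralisers of the two halves of the radical; they commute (`comm01`), `M0` is perfect
* `mem_cent` : `C(z, b) = ⟨b⟩ M0`; `exists_std`; `exists_conj_pow`; `exists_norm`
-/
import Cfsg.Agent.Lib.CoFive.Classes
import Cfsg.Agent.Lib.CoType.Plane

set_option autoImplicit false
open scoped commutatorElement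

namespace Cfsg.Agent.CoFive

open Cfsg.Agent.CoType Cfsg.Agent.Orth Cfsg.Agent.LargeExtraspecial
open QuadraticMap (polar)

/-- Lying in the orthogonal of the fixed space. -/
def InV (x : V8) : Prop := ∀ i, polar ⇑qm x (s i) = 0

theorem inV_e (i : Fin 5) : InV (e i) := fun j => by rw [pl_comm]; exact polar_se j i

theorem inV_σ {x : V8} : InV x ↔ InW (ap σ x) :=
  forall_congr' fun i => by rw [← σ_s, polar_ap]

theorem inW_zero : InW (0 : V8) := fun _ => pl_zero_left _ _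

theorem sum_s_tab : ((sN 0 ^^^ sN 1) ^^^ sN 2) ^^^ sN 3 = sN 4 := by decide

theorem s_four : s 0 + s 1 + s 2 + s 3 = s 4 := by
  simp only [s, ← ofN_xor, sum_s_tab]

theorem e_four : e 0 + e 1 + e 2 + e 3 = e 4 := by
  simp only [← σ_s, ← map_add, s_four]

theorem ext_s {p : V8 → Prop} (hadd : ∀ x y, p x → p y → p (x + y))
    (h : ∀ i : Fin 4, p (s i.castSucc)) {x : V8} (hx : InW x) : p x := by
  have hs : ∀ i : Fin 5, p (s i) := by
    refine Fin.lastCases ?_ h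
    show p (s 4)
    rw [← s_four]
    exact hadd _ _ (hadd _ _ (hadd _ _ (h 0) (h 1)) (h 2)) (h 3)
  obtain ⟨i, j, k, l, rfl⟩ := exists_pairs hx
  exact hadd _ _ (hadd _ _ (hs i) (hs j)) (hadd _ _ (hs k) (hs l))

theorem ext_e {p : V8 → Prop} (hadd : ∀ x y, p x → p y → p (x + y))
    (h : ∀ i : Fin 4, p (e i.castSucc)) {x : V8} (hx : InV x) : p x := by
  have h' := ext_s (p := fun w => p (ap σ w)) (fun a b ha hb => by rw [map_add]; exact hadd _ _ ha hb)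
    (fun i => by rw [σ_s]; exact h i) (inV_σ.mp hx)
  rwa [← ap_mul, σ_sq, ap_one] at h'

variable {G : Type*} [Group G]

/-- The subgroup of elements centralising `z` and the lifts of a list of vectors. -/
def Mc (T : Co G) {ι : Type} (l : ι → V8) : Subgroup G :=
  Subgroup.centralizer {x | x = T.z ∨ (x ∈ T.Q ∧ ∃ i, T.c x = l i)}

section Mc

variable (T : Co G) {ι : Type} (l : ι → V8)

theorem mem_Mc {g : G} :
    g ∈ Mc T l ↔ g * T.z = T.z * g ∧ ∀ x ∈ T.Q, (∃ i, T.c x = l i) → g * x = x * g := by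
  rw [Mc, Subgroup.mem_centralizer_iff]
  constructor
  · intro h
    exact ⟨(h _ (Or.inl rfl)).symm, fun x hx hi => (h x (Or.inr ⟨hx, hi⟩)).symm⟩
  · rintro ⟨hz, h⟩ x (rfl | ⟨hx, hi⟩)
    · exact hz.symm
    · exact (h x hx hi).symm

variable {T l}

theorem Mc.fix {g : G} (hg : g ∈ Mc T l) (i : ι) : ap (T.ρ g) (l i) = l i := by
  obtain ⟨hz, h⟩ := (mem_Mc T l).mp hg
  obtain ⟨x, hx, hxc⟩ := T.c_surj (l i)
  rw [← hxc, ← T.ρ_conj g hz x hx, h x hx ⟨i, hxc⟩, mul_inv_cancel_right]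

theorem comm_iff {q x : G} (hq : q ∈ T.Q) (hx : x ∈ T.Q) :
    q * x = x * q ↔ polar ⇑qm (T.c q) (T.c x) = 0 := by
  rw [← commutatorElement_eq_one_iff_mul_comm, T.comm_Q hq hx]
  exact ⟨fun h => pw_inj T.z_ne (h.trans (pw_zero _).symm), fun h => by rw [h, pw_zero]⟩

theorem Mc.mem_Q {g : G} (hg : g ∈ T.Q) : g ∈ Mc T l ↔ ∀ i, polar ⇑qm (T.c g) (l i) = 0 := by
  rw [mem_Mc]
  constructor
  · rintro ⟨-, h⟩ i
    obtain ⟨x, hx, hxc⟩ := T.c_surj (l i)
    rw [← hxc]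
    exact (comm_iff hg hx).mp (h x hx ⟨i, hxc⟩)
  · intro h
    refine ⟨T.Qz hg, fun x hx ⟨i, hi⟩ => (comm_iff hg hx).mpr ?_⟩
    rw [hi]; exact h i

theorem Mc.exists_lift (hdual : ∀ f : ι → ZMod 2, ∃ w, ∀ i, polar ⇑qm w (l i) = f i)
    {ω : IsoGrp qm} (hω : ω ∈ Cfsg.Omega (ZMod 2) ⇑qm) (hfix : ∀ i, ap ω (l i) = l i) :
    ∃ g ∈ Mc T l, T.ρ g = ω := by
  obtain ⟨g, hgz, hgρ⟩ := T.ρ_surj ω hω
  choose x hx hxc using fun i => T.c_surj (l i)
  have hi : ∀ i, ∃ a : ZMod 2, g * x i * g⁻¹ = x i * pw T.z a := by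
    intro i
    rcases T.c_eq (hx i) (T.data.norm g hgz _ (hx i)) (by
      rw [T.ρ_conj g hgz _ (hx i), hgρ, hxc, hfix]) with h | h
    · exact ⟨0, by rw [h, pw_zero, mul_one]⟩
    · exact ⟨1, by rw [h, pw_one]⟩
  choose a ha using hi
  obtain ⟨w, hw⟩ := hdual a
  obtain ⟨q, hq, hqc⟩ := T.c_surj w
  have hqz := T.Qz hq
  refine ⟨q * g, (mem_Mc T l).mpr ⟨(Commute.mul_left hqz hgz).eq, fun y hy ⟨i, hi⟩ => ?_⟩, by
    rw [T.ρ_mul q g hqz hgz, T.ρ_Q hq, one_mul, hgρ]⟩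
  have key : q * g * x i = x i * (q * g) := by
    have h1 := T.comm_Q hq (hx i)
    rw [hqc, hxc, hw, commutatorElement_def] at h1
    refine mul_inv_eq_iff_eq_mul.mp ?_
    calc q * g * x i * (q * g)⁻¹ = q * (g * x i * g⁻¹) * q⁻¹ := by group
      _ = q * x i * q⁻¹ * (q * pw T.z (a i) * q⁻¹) := by rw [ha]; group
      _ = (q * x i * q⁻¹ * (x i)⁻¹) * (x i) * pw T.z (a i) := by
          rw [pw_comm q hqz, mul_inv_cancel_right]; group
      _ = x i := by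
          rw [h1, ← pw_comm (x i) (T.Qz (hx i)), mul_assoc, pw_sq T.z_sq, mul_one]
  rcases T.c_eq (hx i) hy ((hxc i).trans hi.symm) with rfl | rfl
  · exact key
  · rw [← mul_assoc, key, mul_assoc, mul_assoc, mul_assoc]
    congr 1
    rw [← mul_assoc]
    exact (Commute.mul_left hqz hgz).eq

/-- An element commuting with the lifts of generators commutes with the lifts of their sums. -/
theorem comm_closure {g : G} (hz : g * T.z = T.z * g) {x y : V8}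
    (hx : ∀ q ∈ T.Q, T.c q = x → g * q = q * g) (hy : ∀ q ∈ T.Q, T.c q = y → g * q = q * g) :
    ∀ q ∈ T.Q, T.c q = x + y → g * q = q * g := by
  intro q hq hqc
  obtain ⟨a, ha, hac⟩ := T.c_surj x
  obtain ⟨b, hb, hbc⟩ := T.c_surj y
  have hab : g * (a * b) = a * b * g := (Commute.mul_right (hx a ha hac) (hy b hb hbc)).eq
  rcases T.c_eq (mul_mem ha hb) hq (by rw [T.c_mul a ha b hb, hac, hbc, hqc]) with rfl | rfl
  · exact hab
  · exact (Commute.mul_right hab hz).eq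

end Mc

/-- The number of elements of the radical over a set of vectors. -/
theorem card_over (T : Co G) (p : V8 → Prop) :
    Nat.card {x : G // x ∈ T.Q ∧ p (T.c x)} = 2 * Nat.card {w : V8 // p w} := by
  choose l hl hlc using T.c_surj
  let f : ZMod 2 × {w : V8 // p w} → {x : G // x ∈ T.Q ∧ p (T.c x)} := fun a =>
    ⟨l a.2.1 * pw T.z a.1, mul_mem (hl _) (pw_mem T.data.z_mem _), by
      rw [T.c_mul _ (hl _) _ (pw_mem T.data.z_mem _), hlc]
      rcases z2 a.1 with h | h <;> simp [h, T.c_one, T.c_z, a.2.2]⟩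
  have hf : Function.Bijective f := by
    constructor
    · rintro ⟨i, w, hw⟩ ⟨j, u, hu⟩ h
      have h' : l w * pw T.z i = l u * pw T.z j := congrArg Subtype.val h
      have hc := congrArg T.c h'
      have cz : ∀ i, T.c (pw T.z i) = 0 := fun i => by
        rcases z2 i with rfl | rfl <;> simp [T.c_one, T.c_z]
      rw [T.c_mul _ (hl _) _ (pw_mem T.data.z_mem _), T.c_mul _ (hl _) _ (pw_mem T.data.z_mem _),
        hlc, hlc, cz, cz, add_zero, add_zero] at hc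
      subst hc
      rw [pw_inj T.z_ne (mul_left_cancel h')]
    · rintro ⟨x, hx, hp⟩
      rcases T.c_eq (hl _) hx (hlc (T.c x)) with h | h
      · exact ⟨⟨0, T.c x, hp⟩, Subtype.ext (by simpa [f] using h.symm)⟩
      · exact ⟨⟨1, T.c x, hp⟩, Subtype.ext (by simpa [f] using h.symm)⟩
  rw [← Nat.card_congr (Equiv.ofBijective f hf), Nat.card_prod, Nat.card_zmod]

/-- A conjugate transported by an element of order five fixing its image is fixed. -/
theorem fix_of_five {T : Co G} {g : G} (hg : g * T.z = T.z * g) (h5 : g ^ 5 = 1) {x : G}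
    (hx : x ∈ T.Q) (hfix : ap (T.ρ g) (T.c x) = T.c x) : g * x = x * g := by
  rcases T.c_eq hx (T.data.norm g hg x hx) (by rw [T.ρ_conj g hg x hx, hfix]) with h | h
  · exact mul_inv_eq_iff_eq_mul.mp h
  · exfalso
    have key : ∀ n : ℕ, g ^ n * x * (g ^ n)⁻¹ = x * T.z ^ n := by
      intro n
      induction n with
      | zero => simp
      | succ n ih =>
        have hc : Commute g (T.z ^ n) := Commute.pow_right hg n
        calc g ^ (n + 1) * x * (g ^ (n + 1))⁻¹ = g * (g ^ n * x * (g ^ n)⁻¹) * g⁻¹ := by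
              rw [pow_succ']; group
          _ = g * x * (T.z ^ n * g⁻¹) := by rw [ih]; group
          _ = g * x * g⁻¹ * T.z ^ n := by rw [hc.inv_left.symm.eq]; group
          _ = x * T.z ^ (n + 1) := by rw [h, mul_assoc, ← pow_succ']
    have h1 := key 5
    rw [h5, one_mul, inv_one, mul_one, show T.z ^ 5 = T.z by
      rw [show 5 = 2 * 2 + 1 from rfl, pow_succ, pow_mul,
        show T.z ^ 2 = 1 by rw [pow_two, T.z_sq], one_pow, one_mul]] at h1
    exact T.z_ne (mul_left_cancel (h1.symm.trans (mul_one x).symm))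

/-- An element of order five acting as `β`. -/
structure Std (G : Type*) [Group G] where
  T : Co G
  b : G
  hb : b * T.z = T.z * b
  b5 : b ^ 5 = 1
  hρ : T.ρ b = β

namespace Std

variable (S : Std G)

/-- The fixed points in the radical. -/
def R : Subgroup G := S.T.Q ⊓ Subgroup.centralizer {S.b}

theorem mem_R {x : G} : x ∈ S.R ↔ x ∈ S.T.Q ∧ InW (S.T.c x) := by
  rw [R, Subgroup.mem_inf, Subgroup.mem_centralizer_singleton_iff]
  refine and_congr_right fun hx => ⟨fun h => (fix_iff _).mp ?_, fun h => ?_⟩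
  · rw [← S.hρ, ← S.T.ρ_conj S.b S.hb x hx, ← h, mul_inv_cancel_right]
  · exact (fix_of_five S.hb S.b5 hx (by rw [S.hρ]; exact (fix_iff _).mpr h)).symm

theorem b_ne : S.b ≠ 1 := fun h => β_ne (by rw [← S.hρ, h, S.T.ρ_one])

theorem orderOf_b : orderOf S.b = 5 := by
  haveI : Fact (Nat.Prime 5) := ⟨by norm_num⟩
  exact orderOf_eq_prime S.b5 S.b_ne

theorem ρ_pow (k : ℕ) : S.T.ρ (S.b ^ k) = β ^ k := by
  induction k with
  | zero => rw [pow_zero, pow_zero, S.T.ρ_one]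
  | succ k ih =>
    rw [pow_succ, S.T.ρ_mul _ _ (Commute.pow_left S.hb k).eq S.hb, ih, S.hρ, pow_succ]

theorem z_mem_R : S.T.z ∈ S.R := S.mem_R.mpr ⟨S.T.data.z_mem, by rw [S.T.c_z]; exact inW_zero⟩

theorem exists_R {w : V8} (hw : InW w) : ∃ x ∈ S.R, S.T.c x = w := by
  obtain ⟨x, hx, hxc⟩ := S.T.c_surj w
  exact ⟨x, S.mem_R.mpr ⟨hx, hxc.symm ▸ hw⟩, hxc⟩

/-- The centraliser of the orthogonal half of the radical. -/
def M0 : Subgroup G := Mc S.T fun i : Fin 4 => e i.castSucc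

/-- The centraliser of the fixed half of the radical. -/
def M1 : Subgroup G := Mc S.T fun i : Fin 4 => s i.castSucc

theorem M0_z {g : G} (hg : g ∈ S.M0) : g * S.T.z = S.T.z * g := ((mem_Mc _ _).mp hg).1

theorem M1_z {g : G} (hg : g ∈ S.M1) : g * S.T.z = S.T.z * g := ((mem_Mc _ _).mp hg).1

theorem M1_comm {g x : G} (hg : g ∈ S.M1) (hx : x ∈ S.R) : g * x = x * g := by
  obtain ⟨hxQ, hW⟩ := S.mem_R.mp hx
  exact ext_s (p := fun w => ∀ q ∈ S.T.Q, S.T.c q = w → g * q = q * g)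
    (fun _ _ ha hb => comm_closure (S.M1_z hg) ha hb)
    (fun i q hq hqc => ((mem_Mc _ _).mp hg).2 q hq ⟨i, hqc⟩) hW x hxQ rfl

theorem M0_comm {g x : G} (hg : g ∈ S.M0) (hx : x ∈ S.T.Q) (hV : InV (S.T.c x)) :
    g * x = x * g :=
  ext_e (p := fun w => ∀ q ∈ S.T.Q, S.T.c q = w → g * q = q * g)
    (fun _ _ ha hb => comm_closure (S.M0_z hg) ha hb)
    (fun i q hq hqc => ((mem_Mc _ _).mp hg).2 q hq ⟨i, hqc⟩) hV x hx rfl

theorem ρ_M1 {g : G} (hg : g ∈ S.M1) : S.T.ρ g ∈ S1 := by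
  refine mem_S1.mpr ⟨Fin.lastCases ?_ (fun i => Mc.fix hg i), S.T.ρ_mem g (S.M1_z hg)⟩
  show ap (S.T.ρ g) (s 4) = s 4
  rw [← s_four, map_add, map_add, map_add]
  exact congrArg₂ (· + ·) (congrArg₂ (· + ·) (congrArg₂ (· + ·) (Mc.fix hg 0) (Mc.fix hg 1))
    (Mc.fix hg 2)) (Mc.fix hg 3)

theorem ρ_M0 {g : G} (hg : g ∈ S.M0) : S.T.ρ g ∈ S0 := by
  refine mem_S0.mpr ⟨Fin.lastCases ?_ (fun i => Mc.fix hg i), S.T.ρ_mem g (S.M0_z hg)⟩
  show ap (S.T.ρ g) (e 4) = e 4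
  rw [← e_four, map_add, map_add, map_add]
  exact congrArg₂ (· + ·) (congrArg₂ (· + ·) (congrArg₂ (· + ·) (Mc.fix hg 0) (Mc.fix hg 1))
    (Mc.fix hg 2)) (Mc.fix hg 3)

theorem exists_M0 {ω : IsoGrp qm} (hω : ω ∈ S0) : ∃ g ∈ S.M0, S.T.ρ g = ω :=
  Mc.exists_lift (fun f => let ⟨w, _, hw⟩ := dual_e f; ⟨w, hw⟩) hω.2 fun _ => hω.1 _

theorem exists_M1 {ω : IsoGrp qm} (hω : ω ∈ S1) : ∃ g ∈ S.M1, S.T.ρ g = ω :=
  Mc.exists_lift (fun f => let ⟨w, _, hw⟩ := dual_s f; ⟨w, hw⟩) (mem_S1.mp hω).2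
    fun _ => (mem_S1.mp hω).1 _

theorem mem_M0_Q {q : G} (hq : q ∈ S.T.Q) : q ∈ S.M0 ↔ q ∈ S.R := by
  rw [M0, Mc.mem_Q hq, S.mem_R]
  refine ⟨fun h => ⟨hq, Fin.lastCases ?_ h⟩, fun h i => h.2 _⟩
  show polar ⇑qm (S.T.c q) (e 4) = 0
  rw [← e_four]
  simp only [pl_add_right]
  rw [show polar ⇑qm (S.T.c q) (e 0) = 0 from h 0, show polar ⇑qm (S.T.c q) (e 1) = 0 from h 1,
    show polar ⇑qm (S.T.c q) (e 2) = 0 from h 2, show polar ⇑qm (S.T.c q) (e 3) = 0 from h 3]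
  rfl

theorem mem_M1_Q {q : G} (hq : q ∈ S.T.Q) : q ∈ S.M1 ↔ InV (S.T.c q) := by
  rw [M1, Mc.mem_Q hq]
  refine ⟨fun h => Fin.lastCases ?_ h, fun h i => h _⟩
  show polar ⇑qm (S.T.c q) (s 4) = 0
  rw [← s_four]
  simp only [pl_add_right]
  rw [show polar ⇑qm (S.T.c q) (s 0) = 0 from h 0, show polar ⇑qm (S.T.c q) (s 1) = 0 from h 1,
    show polar ⇑qm (S.T.c q) (s 2) = 0 from h 2, show polar ⇑qm (S.T.c q) (s 3) = 0 from h 3]
  rfl

theorem R_le_M0 : S.R ≤ S.M0 := fun _ hx => (S.mem_M0_Q (S.mem_R.mp hx).1).mpr hx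

theorem conj_M0 {m g : G} (hm : m ∈ S.M1) (hg : g ∈ S.M0) : m * g * m⁻¹ ∈ S.M0 := by
  have hmz := S.M1_z hm
  have hmi : m⁻¹ ∈ S.M1 := inv_mem hm
  refine (mem_Mc _ _).mpr ⟨?_, fun x hx ⟨i, hi⟩ => ?_⟩
  · exact (Commute.mul_left (Commute.mul_left hmz (S.M0_z hg)) (Commute.inv_left hmz)).eq
  · have hy : m⁻¹ * x * m ∈ S.T.Q := by
      simpa using S.T.data.norm m⁻¹ (S.M1_z hmi) x hx
    have hV : InV (S.T.c (m⁻¹ * x * m)) := by
      intro j
      have e1 : S.T.c (m⁻¹ * x * m) = ap (S.T.ρ m⁻¹) (S.T.c x) := by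
        rw [← S.T.ρ_conj m⁻¹ (S.M1_z hmi) x hx, inv_inv]
      rw [e1, ← (mem_S1.mp (S.ρ_M1 hmi)).1 j, polar_ap, hi]
      exact inV_e _ j
    have h := S.M0_comm hg hy hV
    calc m * g * m⁻¹ * x = m * (g * (m⁻¹ * x * m)) * m⁻¹ := by group
      _ = x * (m * g * m⁻¹) := by rw [h]; group

theorem conj_M1 {m g : G} (hm : m ∈ S.M1) (hg : g ∈ S.M0) : g * m * g⁻¹ ∈ S.M1 := by
  have hgz := S.M0_z hg
  have hgi : g⁻¹ ∈ S.M0 := inv_mem hg
  refine (mem_Mc _ _).mpr ⟨?_, fun x hx ⟨i, hi⟩ => ?_⟩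
  · exact (Commute.mul_left (Commute.mul_left hgz (S.M1_z hm)) (Commute.inv_left hgz)).eq
  · have hy : g⁻¹ * x * g ∈ S.R := by
      refine S.mem_R.mpr ⟨by simpa using S.T.data.norm g⁻¹ (S.M0_z hgi) x hx, fun j => ?_⟩
      have e1 : S.T.c (g⁻¹ * x * g) = ap (S.T.ρ g⁻¹) (S.T.c x) := by
        rw [← S.T.ρ_conj g⁻¹ (S.M0_z hgi) x hx, inv_inv]
      rw [e1, ← (mem_S0.mp (S.ρ_M0 hgi)).1 j, polar_ap, hi]
      exact s_mem _ j
    have h := S.M1_comm hm hy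
    calc g * m * g⁻¹ * x = g * (m * (g⁻¹ * x * g)) * g⁻¹ := by group
      _ = x * (g * m * g⁻¹) := by rw [h]; group

theorem comm_pw {m g : G} (hm : m ∈ S.M1) (hg : g ∈ S.M0) :
    ∃ i, m * g * m⁻¹ = g * pw S.T.z i := by
  set y := g⁻¹ * (m * g * m⁻¹) with hy
  have h0 : y ∈ S.M0 := mul_mem (inv_mem hg) (S.conj_M0 hm hg)
  have h1 : y ∈ S.M1 := by
    have := mul_mem (S.conj_M1 hm (inv_mem hg)) (inv_mem hm)
    rw [hy]
    simpa [mul_assoc] using this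
  have hρ1 : S.T.ρ y = 1 :=
    eq_one_of_fix (mem_S1.mp (S.ρ_M1 h1)).1 (mem_S0.mp (S.ρ_M0 h0)).1
  have hyQ : y ∈ S.T.Q := (S.T.ρ_ker y (S.M0_z h0)).mp hρ1
  have hc := eq_zero_of_perp ((S.mem_M1_Q hyQ).mp h1) (S.mem_R.mp ((S.mem_M0_Q hyQ).mp h0)).2
  rcases S.T.c_ker y hyQ hc with h | h
  · exact ⟨0, by rw [pw_zero, mul_one, ← inv_mul_eq_one]; exact (inv_eq_one.mp (by rw [← h, hy]; group))⟩
  · exact ⟨1, by rw [pw_one, ← h, hy, mul_inv_cancel_left]⟩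

/-- The action of `M0` on the five singular vectors. -/
noncomputable def ψ : S.M0 →* alternatingGroup (Fin 5) :=
  toAlt.comp
    { toFun := fun g => ⟨S.T.ρ g, S.ρ_M0 g.2⟩
      map_one' := Subtype.ext S.T.ρ_one
      map_mul' := fun g h => Subtype.ext (S.T.ρ_mul g h (S.M0_z g.2) (S.M0_z h.2)) }

theorem ψ_surj : Function.Surjective S.ψ := by
  intro a
  obtain ⟨g, hg, hgρ⟩ := S.exists_M0 (equivS0.symm a).2
  refine ⟨⟨g, hg⟩, ?_⟩
  exact (congrArg toAlt (Subtype.ext hgρ :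
    (⟨S.T.ρ g, S.ρ_M0 hg⟩ : S0) = equivS0.symm a)).trans (equivS0.apply_symm_apply a)

theorem ψ_ker {g : S.M0} : S.ψ g = 1 ↔ (g : G) ∈ S.R := by
  constructor
  · intro h
    have h1 : (⟨S.T.ρ g, S.ρ_M0 g.2⟩ : S0) = 1 := toAlt_bij.1 (h.trans (map_one _).symm)
    have hQ : (g : G) ∈ S.T.Q := (S.T.ρ_ker _ (S.M0_z g.2)).mp (congrArg Subtype.val h1)
    exact (S.mem_M0_Q hQ).mp g.2
  · intro h
    exact (congrArg toAlt (Subtype.ext (S.T.ρ_Q (S.mem_R.mp h).1) :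
      (⟨S.T.ρ g, S.ρ_M0 g.2⟩ : S0) = 1)).trans (map_one _)

theorem R_le_commutator {x : G} (hx : x ∈ S.R) : x ∈ ⁅S.M0, S.M0⁆ := by
  set H := ⁅S.M0, S.M0⁆
  have hz : S.T.z ∈ H := by
    obtain ⟨a, ha, hac⟩ := S.exists_R (s_mem 0)
    obtain ⟨c, hc, hcc⟩ := S.exists_R (s_mem 1)
    have h := S.T.comm_Q (S.mem_R.mp ha).1 (S.mem_R.mp hc).1
    rw [hac, hcc, ← v0_num, ← p0_num, polar_v0, cp_p0, pw_one] at h
    rw [← h]
    exact Subgroup.commutator_mem_commutator (S.R_le_M0 ha) (S.R_le_M0 hc)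
  have hpair : ∀ i j, ∀ y ∈ S.R, S.T.c y = s i + s j → y ∈ H := by
    intro i j y hy hyc
    obtain ⟨ω, hω, hij⟩ := exists_move_s i j
    obtain ⟨g, hg, hgρ⟩ := S.exists_M0 hω
    obtain ⟨a, ha, hac⟩ := S.exists_R (s_mem i)
    obtain ⟨haQ, -⟩ := S.mem_R.mp ha
    have hgz := S.M0_z hg
    have hm : ⁅g, a⁆ ∈ H := Subgroup.commutator_mem_commutator hg (S.R_le_M0 ha)
    have hmQ : ⁅g, a⁆ ∈ S.T.Q := mul_mem (S.T.data.norm g hgz a haQ) (inv_mem haQ)
    have hmc : S.T.c ⁅g, a⁆ = s i + s j := by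
      rw [commutatorElement_def, S.T.c_mul _ (S.T.data.norm g hgz a haQ) _ (inv_mem haQ),
        S.T.ρ_conj g hgz a haQ, S.T.c_inv haQ, hgρ, hac, hij, add_comm]
    rcases S.T.c_eq hmQ (S.mem_R.mp hy).1 (hmc.trans hyc.symm) with rfl | rfl
    · exact hm
    · exact mul_mem hm hz
  obtain ⟨hxQ, hW⟩ := S.mem_R.mp hx
  obtain ⟨i, j, k, l, hijkl⟩ := exists_pairs hW
  obtain ⟨y1, hy1, hc1⟩ := S.exists_R (inW_add (s_mem i) (s_mem j))
  obtain ⟨y2, hy2, hc2⟩ := S.exists_R (inW_add (s_mem k) (s_mem l))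
  have hy : y1 * y2 ∈ H := mul_mem (hpair i j y1 hy1 hc1) (hpair k l y2 hy2 hc2)
  rcases S.T.c_eq (mul_mem (S.mem_R.mp hy1).1 (S.mem_R.mp hy2).1) hxQ
    (by rw [S.T.c_mul _ (S.mem_R.mp hy1).1 _ (S.mem_R.mp hy2).1, hc1, hc2, hijkl]) with rfl | rfl
  · exact hy
  · exact mul_mem hy hz

theorem alt_five_perfect : commutator (alternatingGroup (Fin 5)) = ⊤ := by
  haveI : IsSimpleGroup (alternatingGroup (Fin 5)) := alternatingGroup.isSimpleGroup (by simp)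
  refine ((Subgroup.Normal.eq_bot_or_eq_top inferInstance).resolve_left fun h => ?_)
  rw [commutator_def, Subgroup.commutator_eq_bot_iff_le_centralizer] at h
  have hc : ∀ a b : alternatingGroup (Fin 5), a * b = b * a := fun a b =>
    (Subgroup.mem_centralizer_iff.mp (h (Subgroup.mem_top b)) a (Subgroup.mem_top a))
  have hne : ∃ a b : alternatingGroup (Fin 5), a * b ≠ b * a := by decide +kernel
  obtain ⟨a, b, hab⟩ := hne
  exact hab (hc a b)

theorem M0_perfect : ⁅S.M0, S.M0⁆ = S.M0 := by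
  refine le_antisymm ((Subgroup.commutator_le).mpr fun a ha b hb => ?_) fun g hg => ?_
  · exact mul_mem (mul_mem (mul_mem ha hb) (inv_mem ha)) (inv_mem hb)
  have h : ((commutator S.M0).map S.ψ) = ⊤ := by
    rw [commutator_def, Subgroup.map_commutator, Subgroup.map_top_of_surjective _ S.ψ_surj,
      ← commutator_def, alt_five_perfect]
  obtain ⟨d, hd, hdg⟩ : S.ψ ⟨g, hg⟩ ∈ (commutator S.M0).map S.ψ := h ▸ Subgroup.mem_top _
  have hd' : (d : G) ∈ ⁅S.M0, S.M0⁆ := by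
    have := Subgroup.mem_map_of_mem S.M0.subtype hd
    rwa [commutator_def, Subgroup.map_commutator, ← MonoidHom.range_eq_map, Subgroup.range_subtype]
      at this
  have hR : ((d⁻¹ * ⟨g, hg⟩ : S.M0) : G) ∈ S.R :=
    S.ψ_ker.mp (by rw [map_mul, map_inv, hdg, inv_mul_cancel])
  have := mul_mem hd' (S.R_le_commutator hR)
  simpa using this

/-- The two halves commute. -/
theorem comm01 {m g : G} (hm : m ∈ S.M1) (hg : g ∈ S.M0) : m * g = g * m := by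
  have hle : ⁅S.M0, S.M0⁆ ≤ Subgroup.centralizer ({m} : Set G) := by
    refine Subgroup.commutator_le.mpr fun a ha c hc => ?_
    obtain ⟨i, hi⟩ := S.comm_pw hm ha
    obtain ⟨j, hj⟩ := S.comm_pw hm hc
    have cz : ∀ x ∈ S.M0, ∀ i, x * pw S.T.z i = pw S.T.z i * x := fun x hx i => pw_comm x (S.M0_z hx) i
    rw [Subgroup.mem_centralizer_singleton_iff]
    symm
    refine mul_inv_eq_iff_eq_mul.mp ?_
    have hci := Commute.inv_left (cz a ha i)
    calc m * ⁅a, c⁆ * m⁻¹ = ⁅m * a * m⁻¹, m * c * m⁻¹⁆ := by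
          simp only [commutatorElement_def]; group
      _ = a * (pw S.T.z i * c) * pw S.T.z j * ((pw S.T.z i)⁻¹ * a⁻¹) * ((pw S.T.z j)⁻¹ * c⁻¹) := by
          rw [hi, hj, commutatorElement_def]; group
      _ = ⁅a, c⁆ := by
          rw [← cz c hc i, (Commute.inv_inv (cz a ha i)).symm.eq, (Commute.inv_inv (cz c hc j)).symm.eq,
            commutatorElement_def]
          have e : pw S.T.z i * pw S.T.z j * a⁻¹ = a⁻¹ * (pw S.T.z i * pw S.T.z j) :=
            (Commute.mul_right (Commute.inv_left (cz a ha i)) (Commute.inv_left (cz a ha j))).eq.symm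
          calc a * (c * pw S.T.z i) * pw S.T.z j * (a⁻¹ * (pw S.T.z i)⁻¹) * (c⁻¹ * (pw S.T.z j)⁻¹)
              = a * c * (pw S.T.z i * pw S.T.z j * a⁻¹) * ((pw S.T.z i)⁻¹ * c⁻¹) * (pw S.T.z j)⁻¹ := by group
            _ = a * c * a⁻¹ * c⁻¹ := by
                rw [e, (Commute.inv_inv (cz c hc i)).symm.eq, pw_inv S.T.z_sq, pw_inv S.T.z_sq]
                calc a * c * (a⁻¹ * (pw S.T.z i * pw S.T.z j)) * (c⁻¹ * pw S.T.z i) * pw S.T.z j
                    = a * c * a⁻¹ * (pw S.T.z i * pw S.T.z j * c⁻¹) * (pw S.T.z i * pw S.T.z j) := by group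
                  _ = a * c * a⁻¹ * c⁻¹ * ((pw S.T.z i * pw S.T.z j) * (pw S.T.z i * pw S.T.z j)) := by
                      rw [show pw S.T.z i * pw S.T.z j * c⁻¹ = c⁻¹ * (pw S.T.z i * pw S.T.z j) from
                        (Commute.mul_right (Commute.inv_left (cz c hc i)) (Commute.inv_left (cz c hc j))).eq.symm]
                      group
                  _ = a * c * a⁻¹ * c⁻¹ := by
                      rw [← pw_add S.T.z_sq, pw_sq S.T.z_sq, mul_one]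
  rw [S.M0_perfect] at hle
  exact (Subgroup.mem_centralizer_singleton_iff.mp (hle hg)).symm

theorem b_mem_M1 : S.b ∈ S.M1 :=
  (mem_Mc _ _).mpr ⟨S.hb, fun x hx ⟨i, hi⟩ => fix_of_five S.hb S.b5 hx (by rw [S.hρ, hi, β_s])⟩

theorem M0_b {g : G} (hg : g ∈ S.M0) : g * S.b = S.b * g := (S.comm01 S.b_mem_M1 hg).symm

/-- The centraliser of `z` and `b`. -/
theorem mem_cent {g : G} (hz : g * S.T.z = S.T.z * g) (hgb : g * S.b = S.b * g) :
    ∃ k : ℕ, ∃ m ∈ S.M0, g = S.b ^ k * m := by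
  have hc : S.T.ρ g * β = β * S.T.ρ g := by
    rw [← S.hρ, ← S.T.ρ_mul g S.b hz S.hb, hgb, S.T.ρ_mul S.b g S.hb hz]
  obtain ⟨k, hk⟩ := centralizer_β (S.T.ρ_mem g hz) hc
  obtain ⟨m, hm, hmρ⟩ := S.exists_M0 hk
  set q := m⁻¹ * ((S.b ^ k)⁻¹ * g) with hq
  have hbk : (S.b ^ k)⁻¹ * S.T.z = S.T.z * (S.b ^ k)⁻¹ :=
    (Commute.inv_left (Commute.pow_left S.hb k)).eq
  have h1 : (S.b ^ k)⁻¹ * g * S.T.z = S.T.z * ((S.b ^ k)⁻¹ * g) := (Commute.mul_left hbk hz).eq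
  have hqz : q * S.T.z = S.T.z * q := (Commute.mul_left (Commute.inv_left (S.M0_z hm)) h1).eq
  have hqQ : q ∈ S.T.Q := (S.T.ρ_ker q hqz).mp (by
    rw [hq, S.T.ρ_mul _ _ (Commute.inv_left (S.M0_z hm)).eq h1, S.T.ρ_inv (S.M0_z hm), hmρ,
      S.T.ρ_mul _ _ hbk hz, S.T.ρ_inv (Commute.pow_left S.hb k).eq, S.ρ_pow, inv_mul_cancel])
  have hqb : q * S.b = S.b * q :=
    (Commute.mul_left (Commute.inv_left (S.M0_b hm))
      (Commute.mul_left (Commute.inv_left (Commute.pow_self S.b k)) hgb)).eq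
  have hqR : q ∈ S.R := ⟨hqQ, Subgroup.mem_centralizer_singleton_iff.mpr hqb⟩
  exact ⟨k, m * q, mul_mem hm (S.R_le_M0 hqR), by rw [hq]; group⟩

theorem pow_mem_M0 {k : ℕ} (h : S.b ^ k ∈ S.M0) : 5 ∣ k := by
  by_contra hk
  have h1 : ap (β ^ k) (e 0) = e 0 := by
    rw [← S.ρ_pow]; exact (mem_S0.mp (S.ρ_M0 h)).1 0
  have h2 : ap β (e 0) = e 0 := fix_of_pow β_five hk h1
  have h3 : e 0 = e 1 := h2.symm.trans (β_e 0)
  rw [← σ_s, ← σ_s] at h3
  exact absurd (s_inj (ap_inj σ h3)) (by decide)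

theorem card_R : Nat.card S.R = 32 := by
  rw [Nat.card_congr (Equiv.subtypeEquivRight fun x => S.mem_R),
    card_over S.T InW]
  have : Nat.card {w : V8 // InW w} = 16 := by
    have hb : Function.Bijective (fun l : Fin 4 → ZMod 2 => (⟨(dual_s l).choose,
        (dual_s l).choose_spec.1⟩ : {w : V8 // InW w})) := by
      constructor
      · intro l l' h
        funext i
        rw [← (dual_s l).choose_spec.2 i, ← (dual_s l').choose_spec.2 i,
          show (dual_s l).choose = (dual_s l').choose from congrArg Subtype.val h]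
      · rintro ⟨w, hw⟩
        refine ⟨fun i => polar ⇑qm w (s i.castSucc), Subtype.ext ?_⟩
        set l : Fin 4 → ZMod 2 := fun i => polar ⇑qm w (s i.castSucc) with hl
        obtain ⟨h1, h2⟩ := (dual_s l).choose_spec
        refine eq_of_sub_eq_zero (eq_zero_of_perp (fun i => ?_) ?_)
        · refine ext_s (p := fun x => polar ⇑qm ((dual_s l).choose - w) x = 0)
            (fun x y hx hy => by rw [pl_add_right, hx, hy, add_zero]) (fun j => ?_) (s_mem i)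
          rw [pl_sub_left, h2 j, hl, sub_self]
        · rw [sub_eq_add_neg, ZModModule.neg_eq_self]; exact inW_add h1 hw
    rw [← Nat.card_congr (Equiv.ofBijective _ hb), Nat.card_fun, Nat.card_zmod, Nat.card_eq_fintype_card,
      Fintype.card_fin]
    rfl
  rw [this]

theorem card_M1 [Finite G] : Nat.card S.M1 = 32 * 60 := by
  let f : S.M1 →* S1 :=
    { toFun := fun g => ⟨S.T.ρ g, S.ρ_M1 g.2⟩
      map_one' := Subtype.ext S.T.ρ_one
      map_mul' := fun g h => Subtype.ext (S.T.ρ_mul g h (S.M1_z g.2) (S.M1_z h.2)) }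
  have hf : Function.Surjective f := fun a => by
    obtain ⟨g, hg, hgρ⟩ := S.exists_M1 a.2
    exact ⟨⟨g, hg⟩, Subtype.ext hgρ⟩
  have hk : Nat.card f.ker = 2 * Nat.card {w : V8 // InV w} := by
    rw [← card_over S.T InV]
    refine Nat.card_congr
      ⟨fun g => ⟨g.1.1, ?_, ?_⟩, fun x => ⟨⟨x.1, (S.mem_M1_Q x.2.1).mpr x.2.2⟩,
        Subtype.ext (S.T.ρ_Q x.2.1)⟩, fun g => rfl, fun x => rfl⟩
    · exact (S.T.ρ_ker _ (S.M1_z g.1.2)).mp (congrArg Subtype.val g.2)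
    · exact (S.mem_M1_Q ((S.T.ρ_ker _ (S.M1_z g.1.2)).mp (congrArg Subtype.val g.2))).mp g.1.2
  have hV : Nat.card {w : V8 // InV w} = Nat.card {w : V8 // InW w} := Nat.card_congr
    ⟨fun w => ⟨ap σ w.1, inV_σ.mp w.2⟩, fun w => ⟨ap σ w.1, inV_σ.mpr (by
      rw [← ap_mul, σ_sq, ap_one]; exact w.2)⟩,
      fun w => Subtype.ext (by show ap σ (ap σ w.1) = w.1; rw [← ap_mul, σ_sq, ap_one]),
      fun w => Subtype.ext (by show ap σ (ap σ w.1) = w.1; rw [← ap_mul, σ_sq, ap_one])⟩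
  have hW := S.card_R
  rw [Nat.card_congr (Equiv.subtypeEquivRight fun x => S.mem_R), card_over S.T InW, ← hV, ← hk] at hW
  rw [Subgroup.card_eq_card_quotient_mul_card_subgroup f.ker,
    Nat.card_congr (QuotientGroup.quotientKerEquivOfSurjective f hf).toEquiv, card_S1, hW]

/-- Elements of order five acting as powers of `β` are conjugate to powers of `b`. -/
theorem exists_conj_pow [Finite G] {f : G} (hf : f * S.T.z = S.T.z * f) (f5 : f ^ 5 = 1) {i : ℕ}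
    (hρf : S.T.ρ f = β ^ i) : ∃ k, k * S.T.z = S.T.z * k ∧ k * f * k⁻¹ = S.b ^ i := by
  haveI : Fact (Nat.Prime 5) := ⟨by norm_num⟩
  let P : Subgroup G :=
    { carrier := {g | g * S.T.z = S.T.z * g ∧ S.T.ρ g ∈ Subgroup.zpowers β}
      one_mem' := ⟨by rw [one_mul, mul_one], by rw [S.T.ρ_one]; exact one_mem _⟩
      mul_mem' := fun {a c} ha hc => ⟨(Commute.mul_left ha.1 hc.1).eq, by
        rw [S.T.ρ_mul a c ha.1 hc.1]; exact mul_mem ha.2 hc.2⟩
      inv_mem' := fun {a} ha => ⟨(Commute.inv_left ha.1).eq, by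
        rw [S.T.ρ_inv ha.1]; exact inv_mem ha.2⟩ }
  have hbP : S.b ∈ P := ⟨S.hb, by rw [S.hρ]; exact Subgroup.mem_zpowers _⟩
  have hfP : f ∈ P := ⟨hf, by rw [hρf]; exact pow_mem (Subgroup.mem_zpowers _) _⟩
  let φP : P →* IsoGrp qm :=
    { toFun := fun g => S.T.ρ g
      map_one' := S.T.ρ_one
      map_mul' := fun g h => S.T.ρ_mul g h g.2.1 h.2.1 }
  have hrange : φP.range = Subgroup.zpowers β := le_antisymm (by rintro _ ⟨g, rfl⟩; exact g.2.2)
    (Subgroup.zpowers_le.mpr ⟨⟨S.b, hbP⟩, S.hρ⟩)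
  have hker : Nat.card φP.ker = 2 ^ 9 := by
    rw [← S.T.card_Q]
    exact Nat.card_congr ⟨fun g => ⟨g.1.1, (S.T.ρ_ker _ g.1.2.1).mp g.2⟩,
      fun x => ⟨⟨x.1, S.T.Qz x.2, by rw [S.T.ρ_Q x.2]; exact one_mem _⟩, S.T.ρ_Q x.2⟩,
      fun g => rfl, fun x => rfl⟩
  have hP : Nat.card P = 5 * 2 ^ 9 := by
    rw [Subgroup.card_eq_card_quotient_mul_card_subgroup φP.ker,
      Nat.card_congr (QuotientGroup.quotientKerEquivRange φP).toEquiv, hrange, Nat.card_zpowers,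
      orderOf_eq_prime β_five β_ne, hker]
  have hsyl : ∀ x : P, x ≠ 1 → (x : G) ^ 5 = 1 →
      ∃ Sy : Sylow 5 P, (Sy : Subgroup P) = Subgroup.zpowers x := by
    intro x hx1 hx5
    have ho : orderOf x = 5 := orderOf_eq_prime (Subtype.ext hx5) hx1
    refine ⟨Sylow.ofCard (Subgroup.zpowers x) ?_, rfl⟩
    rw [Nat.card_zpowers, ho, hP, Nat.factorization_mul (by norm_num) (by norm_num), Finsupp.add_apply,
      Nat.Prime.factorization_self (by norm_num), Nat.factorization_eq_zero_of_not_dvd (by norm_num)]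
    rfl
  by_cases hf1 : f = 1
  · refine ⟨1, by rw [one_mul, mul_one], ?_⟩
    rw [hf1, S.T.ρ_one, eq_comm, ← orderOf_dvd_iff_pow_eq_one, orderOf_eq_prime β_five β_ne] at hρf
    obtain ⟨m, rfl⟩ := hρf
    rw [hf1, pow_mul, S.b5, one_pow]; group
  obtain ⟨A, hA⟩ := hsyl ⟨f, hfP⟩ (fun h => hf1 (congrArg Subtype.val h)) f5
  obtain ⟨B, hB⟩ := hsyl ⟨S.b, hbP⟩ (fun h => S.b_ne (congrArg Subtype.val h)) S.b5
  obtain ⟨k, hk⟩ := MulAction.exists_smul_eq P A B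
  have hm : k * ⟨f, hfP⟩ * k⁻¹ ∈ (B : Subgroup P) := by
    rw [← hk]
    exact ⟨⟨f, hfP⟩, hA.symm ▸ Subgroup.mem_zpowers _, rfl⟩
  rw [hB] at hm
  obtain ⟨j, hj⟩ := (mem_powers_iff_mem_zpowers).mpr hm
  refine ⟨k, k.2.1, ?_⟩
  have hjG : S.b ^ j = (k : G) * f * (k : G)⁻¹ := congrArg Subtype.val hj
  have hji : β ^ j = β ^ i := by
    obtain ⟨l, hl⟩ := Subgroup.mem_zpowers_iff.mp k.2.2
    rw [← S.ρ_pow, hjG, S.T.ρ_mul _ _ (Commute.mul_left k.2.1 hf).eq (Commute.inv_left k.2.1).eq,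
      S.T.ρ_mul _ _ k.2.1 hf, S.T.ρ_inv k.2.1, hρf, ← hl]
    group
  rw [pow_inj_mod, orderOf_eq_prime β_five β_ne, ← S.orderOf_b, ← pow_inj_mod] at hji
  rw [← hjG, hji]

theorem exists_norm [Finite G] :
    ∃ n, n * S.T.z = S.T.z * n ∧ n * S.b * n⁻¹ = S.b ^ 2 := by
  obtain ⟨g, hg, hgρ⟩ := S.T.ρ_surj ν ν_mem
  have hf : g * S.b * g⁻¹ * S.T.z = S.T.z * (g * S.b * g⁻¹) :=
    (Commute.mul_left (Commute.mul_left hg S.hb) (Commute.inv_left hg)).eq
  have h5 : (g * S.b * g⁻¹) ^ 5 = 1 := by rw [conj_pow, S.b5, mul_one, mul_inv_cancel]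
  have hρ2 : S.T.ρ (g * S.b * g⁻¹) = β ^ 2 := by
    rw [S.T.ρ_mul _ _ (Commute.mul_left hg S.hb).eq (Commute.inv_left hg).eq, S.T.ρ_mul _ _ hg S.hb,
      S.T.ρ_inv hg, hgρ, S.hρ, ν_β]
  obtain ⟨k, hk, hj⟩ := S.exists_conj_pow hf h5 hρ2
  refine ⟨k * g, (Commute.mul_left hk hg).eq, ?_⟩
  rw [show k * g * S.b * (k * g)⁻¹ = k * (g * S.b * g⁻¹) * k⁻¹ by group, hj]

end Std

end Cfsg.Agent.CoFive
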