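/-
Conjugates of `z` commuting with the element of order five (helper61).

* `Loc` : an element `g` centralising `b` moving `z` to a vector `v0` of the radical; `exists_loc`
* `Loc.exists_swap`, `Loc.exists_typ` : the elements used for the Hall–Janko hypotheses
-/
import Cfsg.Agent.Lib.CoFive.Lift

set_option autoImplicit false
open scoped commutatorElement

namespace Cfsg.Agent.CoFive

open Cfsg.Agent.CoType Cfsg.Agent.Orth Cfsg.Agent.LargeExtraspecial Cfsg.Agent.LargeExtraspecial.Cfg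
open QuadraticMap (polar)

variable {G : Type*} [Group G]

theorem mem_conjS' {h x : G} {Q : Subgroup G} (hx : x ∈ conjS h Q) : h⁻¹ * x * h ∈ Q := by
  obtain ⟨q, hq, rfl⟩ := hx
  show h⁻¹ * (h * q * h⁻¹) * h ∈ Q
  rwa [show h⁻¹ * (h * q * h⁻¹) * h = q by group]

/-- Involutions of the radical are conjugate to `z`. -/
theorem isConj_z [Finite G] (T : Co G) {y : G} (hy : y ∈ T.Q) (hy2 : y * y = 1) (hy1 : y ≠ 1) :
    IsConj y T.z := by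
  obtain ⟨h, hQ, hne⟩ := T.wc
  have h2 : h * T.z * h⁻¹ * (h * T.z * h⁻¹) = 1 := by
    calc h * T.z * h⁻¹ * (h * T.z * h⁻¹) = h * (T.z * T.z) * h⁻¹ := by group
      _ = 1 := by rw [T.z_sq]; group
  have h0 : T.c (h * T.z * h⁻¹) ≠ 0 := fun e => by
    rcases T.c_ker _ hQ e with e | e
    · exact T.z_ne (conj_eq_one_iff.mp e)
    · exact hne e
  have hq : qm (T.c (h * T.z * h⁻¹)) = 0 := pw_inj T.z_ne (by rw [← T.sq _ hQ, h2, pw_zero])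
  obtain ⟨ω, hω, hωv⟩ := exists_omega_to_v0 h0 hq
  let F : Fr G := ⟨T.twist ω hω, h, hQ, hωv⟩
  exact F.inQ_conj hy hy2 hy1

/-- The element with a vector of the fixed space singled out. -/
structure Loc (G : Type*) [Group G] where
  S : Std G
  g : G
  gb : g * S.b = S.b * g
  gQ : g * S.T.z * g⁻¹ ∈ S.T.Q
  gc : S.T.c (g * S.T.z * g⁻¹) = v0

theorem mul_mod_five {i : ℕ} (hi : ¬ 5 ∣ i) : ∃ m, i * m % 5 = 1 := by
  have h4 : i % 5 = 1 ∨ i % 5 = 2 ∨ i % 5 = 3 ∨ i % 5 = 4 := by omega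
  rcases h4 with e | e | e | e
  · exact ⟨1, by omega⟩
  · exact ⟨3, by omega⟩
  · exact ⟨2, by omega⟩
  · exact ⟨4, by omega⟩

theorem pow_five_mod {H : Type*} [Group H] {x : H} (h5 : x ^ 5 = 1) (n : ℕ) :
    x ^ n = x ^ (n % 5) := by
  conv_lhs => rw [← Nat.div_add_mod n 5, pow_add, pow_mul, h5, one_pow, one_mul]

/-- Passing to an element acting as `β`. -/
theorem exists_std [Finite G] (T : Co G) {b : G} (hb : b * T.z = T.z * b) (b5 : b ^ 5 = 1)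
    (hb1 : b ≠ 1) {w : G} (hw : w ∈ T.Q) (hw0 : T.c w ≠ 0) (hwb : b * w = w * b) :
    ∃ S : Std G, S.T.z = T.z ∧ S.T.Q = T.Q ∧ ∃ m : ℕ, ¬ 5 ∣ m ∧ S.b = b ^ m := by
  have : Fact (Nat.Prime 5) := ⟨by norm_num⟩
  have hpow : ∀ n : ℕ, T.ρ (b ^ n) = T.ρ b ^ n := by
    intro n
    induction n with
    | zero => rw [pow_zero, pow_zero, T.ρ_one]
    | succ n ih => rw [pow_succ, T.ρ_mul _ _ (Commute.pow_left hb n).eq hb, ih, pow_succ]
  have hf5 : T.ρ b ^ 5 = 1 := by rw [← hpow, b5, T.ρ_one]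
  have hfix : ap (T.ρ b) (T.c w) = T.c w := by
    rw [← T.ρ_conj b hb w hw, hwb, mul_inv_cancel_right]
  obtain ⟨ω, hω, i, hi⟩ := exists_conj_β (T.ρ_mem b hb) hf5 hw0 hfix
  have hi5 : ¬ 5 ∣ i := by
    rintro ⟨k, rfl⟩
    rw [pow_mul, β_five, one_pow] at hi
    have hbQ := (T.ρ_ker b hb).mp (conj_eq_one_iff.mp hi)
    have h512 : b ^ Nat.card T.Q = 1 := by
      have := pow_card_eq_one' (x := (⟨b, hbQ⟩ : T.Q))
      exact congrArg Subtype.val this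
    rw [T.card_Q, pow_five_mod b5, show 2 ^ 9 % 5 = 2 from rfl] at h512
    exact hb1 (by
      calc b = (b ^ 2) ^ 3 := by rw [← pow_mul, pow_five_mod b5]; norm_num
        _ = 1 := by rw [h512, one_pow])
  obtain ⟨m, hm⟩ := mul_mod_five hi5
  refine ⟨{
    T := T.twist ω hω
    b := b ^ m
    hb := (Commute.pow_left hb m).eq
    b5 := by rw [← pow_mul, mul_comm, pow_mul, b5, one_pow]
    hρ := ?_ }, rfl, rfl, m, fun h => ?_, rfl⟩
  · show ω * T.ρ (b ^ m) * ω⁻¹ = β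
    rw [hpow, ← conj_pow, hi, ← pow_mul, pow_five_mod β_five, hm, pow_one]
  · obtain ⟨k, rfl⟩ := h
    rw [← mul_assoc, mul_comm i 5, mul_assoc, Nat.mul_mod_right] at hm
    exact absurd hm (by norm_num)

theorem exists_loc [Finite G] (S : Std G) : ∃ L : Loc G, L.S = S := by
  obtain ⟨v, hv, hvc⟩ := S.exists_R (s_mem 0)
  obtain ⟨hvQ, -⟩ := S.mem_R.mp hv
  rw [← v0_num] at hvc
  have hv2 : v * v = 1 := by rw [S.T.sq v hvQ, hvc, qm_v0, pw_zero]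
  have hv1 : v ≠ 1 := fun e => v0_ne (by rw [← hvc, e, S.T.c_one])
  obtain ⟨h, hh⟩ := isConj_iff.mp (isConj_z S.T hvQ hv2 hv1).symm
  let F : Fr G := ⟨S.T, h, hh.symm ▸ hvQ, by rw [hh, hvc]⟩
  have hu : h⁻¹ * S.T.z * h ∈ S.T.Q := mem_conjS' (Q := S.T.Q) F.cfg.z_mem
  have hvb : S.b * v = v * S.b := (Subgroup.mem_centralizer_singleton_iff.mp hv.2).symm
  set f := h⁻¹ * S.b * h with hf
  have hzv : S.T.z = h⁻¹ * v * h := by rw [← hh]; group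
  have hfz : f * S.T.z = S.T.z * f := by
    rw [hf, hzv]
    calc h⁻¹ * S.b * h * (h⁻¹ * v * h) = h⁻¹ * (S.b * v) * h := by group
      _ = h⁻¹ * v * h * (h⁻¹ * S.b * h) := by rw [hvb]; group
  have f5 : f ^ 5 = 1 := by
    rw [hf, show h⁻¹ * S.b * h = h⁻¹ * S.b * (h⁻¹)⁻¹ by group, conj_pow, S.b5, mul_one,
      mul_inv_cancel]
  have hfu : f * (h⁻¹ * S.T.z * h) = h⁻¹ * S.T.z * h * f := by
    rw [hf]
    calc h⁻¹ * S.b * h * (h⁻¹ * S.T.z * h) = h⁻¹ * (S.b * S.T.z) * h := by group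
      _ = h⁻¹ * S.T.z * h * (h⁻¹ * S.b * h) := by rw [S.hb]; group
  have hu0 : S.T.c (h⁻¹ * S.T.z * h) ≠ 0 := by
    intro e
    rcases S.T.c_ker _ hu e with e | e
    · exact S.T.z_ne (by
        calc S.T.z = h * (h⁻¹ * S.T.z * h) * h⁻¹ := by group
          _ = 1 := by rw [e]; group)
    · have hvz : v = S.T.z := by
        calc v = h * S.T.z * h⁻¹ := hh.symm
          _ = h * (h⁻¹ * S.T.z * h) * h⁻¹ := by rw [e]
          _ = S.T.z := by group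
      exact v0_ne (by rw [← hvc, hvz, S.T.c_z])
  have hfix : ap (S.T.ρ f) (S.T.c (h⁻¹ * S.T.z * h)) = S.T.c (h⁻¹ * S.T.z * h) := by
    rw [← S.T.ρ_conj f hfz _ hu, hfu, mul_inv_cancel_right]
  have hρ5 : S.T.ρ f ^ 5 = 1 := by
    have hpow : ∀ n : ℕ, S.T.ρ (f ^ n) = S.T.ρ f ^ n := by
      intro n
      induction n with
      | zero => rw [pow_zero, pow_zero, S.T.ρ_one]
      | succ n ih => rw [pow_succ, S.T.ρ_mul _ _ (Commute.pow_left hfz n).eq hfz, ih, pow_succ]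
    rw [← hpow, f5, S.T.ρ_one]
  obtain ⟨ω, hω, i, hi⟩ := exists_conj_β (S.T.ρ_mem f hfz) hρ5 hu0 hfix
  obtain ⟨l, hl, hlρ⟩ := S.T.ρ_surj ω hω
  have hlf : l * f * S.T.z = S.T.z * (l * f) := (Commute.mul_left hl hfz).eq
  have hlfl : l * f * l⁻¹ * S.T.z = S.T.z * (l * f * l⁻¹) :=
    (Commute.mul_left hlf (Commute.inv_left hl)).eq
  obtain ⟨k, hk, hkj⟩ := S.exists_conj_pow hlfl (by rw [conj_pow, f5, mul_one, mul_inv_cancel])
    (i := i) (by rw [S.T.ρ_mul _ _ hlf (Commute.inv_left hl).eq, S.T.ρ_mul _ _ hl hfz,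
      S.T.ρ_inv hl, hlρ, hi])
  -- adjust
  set g₁ := h * (k * l)⁻¹ with hg₁
  have hg₁z : g₁ * S.T.z * g₁⁻¹ = v := by
    rw [hg₁]
    calc h * (k * l)⁻¹ * S.T.z * (h * (k * l)⁻¹)⁻¹
        = h * ((k * l)⁻¹ * S.T.z * (k * l)) * h⁻¹ := by group
      _ = h * S.T.z * h⁻¹ := by
          rw [(Commute.inv_left (Commute.mul_left hk hl)).eq, mul_assoc S.T.z, inv_mul_cancel, mul_one]
      _ = v := hh
  have hg₁b : g₁ * S.b ^ i * g₁⁻¹ = S.b := by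
    rw [← hkj, hg₁, hf]; group
  have hi5 : ¬ 5 ∣ i := by
    rintro ⟨t, rfl⟩
    rw [pow_mul, S.b5, one_pow, mul_one, mul_inv_cancel] at hg₁b
    exact S.b_ne hg₁b.symm
  obtain ⟨m, hm⟩ := mul_mod_five hi5
  have hgm : g₁ * S.b * g₁⁻¹ = S.b ^ m := by
    have := congrArg (fun x : G => x ^ m) hg₁b
    simp only [conj_pow, ← pow_mul] at this
    rwa [pow_five_mod S.b5 (i * m), hm, pow_one] at this
  obtain ⟨n, hnz, hn⟩ := S.exists_norm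
  have hnr : ∀ r : ℕ, n ^ r * S.b * (n ^ r)⁻¹ = S.b ^ 2 ^ r := by
    intro r
    induction r with
    | zero => simp
    | succ r ih =>
      calc n ^ (r + 1) * S.b * (n ^ (r + 1))⁻¹ = n * (n ^ r * S.b * (n ^ r)⁻¹) * n⁻¹ := by
            rw [pow_succ']; group
        _ = S.b ^ 2 ^ (r + 1) := by rw [ih, ← conj_pow, hn, ← pow_mul, pow_succ']
  obtain ⟨r, hr⟩ : ∃ r : ℕ, m * 2 ^ r % 5 = 1 := by
    have h0 : m % 5 ≠ 0 := fun e => by
      rw [Nat.mul_mod, e, mul_zero, Nat.zero_mod] at hm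
      exact absurd hm (by norm_num)
    have h4 : m % 5 = 1 ∨ m % 5 = 2 ∨ m % 5 = 3 ∨ m % 5 = 4 := by omega
    rcases h4 with e | e | e | e
    · exact ⟨0, by omega⟩
    · exact ⟨3, by omega⟩
    · exact ⟨1, by omega⟩
    · exact ⟨2, by omega⟩
  have hgz : g₁ * n ^ r * S.T.z * (g₁ * n ^ r)⁻¹ = v := by
    rw [← hg₁z]
    calc g₁ * n ^ r * S.T.z * (g₁ * n ^ r)⁻¹ = g₁ * (n ^ r * S.T.z * (n ^ r)⁻¹) * g₁⁻¹ := by group
      _ = g₁ * S.T.z * g₁⁻¹ := by rw [(Commute.pow_left hnz r).eq, mul_inv_cancel_right]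
  refine ⟨⟨S, g₁ * n ^ r, ?_, by rw [hgz]; exact hvQ, by rw [hgz]; exact hvc⟩, rfl⟩
  refine mul_inv_eq_iff_eq_mul.mp ?_
  calc g₁ * n ^ r * S.b * (g₁ * n ^ r)⁻¹ = g₁ * (n ^ r * S.b * (n ^ r)⁻¹) * g₁⁻¹ := by group
    _ = (g₁ * S.b * g₁⁻¹) ^ 2 ^ r := by rw [hnr, conj_pow]
    _ = S.b := by rw [hgm, ← pow_mul, pow_five_mod S.b5, hr, pow_one]

namespace Loc

variable (L : Loc G)

/-- The frame. -/
def F : Fr G := ⟨L.S.T, L.g, L.gQ, L.gc⟩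

/-- The conjugate of `z`. -/
abbrev v : G := L.g * L.S.T.z * L.g⁻¹

theorem g_b_conj : L.g * L.S.b * L.g⁻¹ = L.S.b := mul_inv_eq_iff_eq_mul.mpr L.gb

/-- The conjugate half. -/
def M0' : Subgroup G := L.S.M0.map (MulAut.conj L.g).toMonoidHom

/-- The conjugate half. -/
def M1' : Subgroup G := L.S.M1.map (MulAut.conj L.g).toMonoidHom

theorem mem_M0' {x : G} : x ∈ L.M0' ↔ L.g⁻¹ * x * L.g ∈ L.S.M0 := by
  constructor
  · rintro ⟨m, hm, rfl⟩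
    show L.g⁻¹ * (L.g * m * L.g⁻¹) * L.g ∈ L.S.M0
    rwa [show L.g⁻¹ * (L.g * m * L.g⁻¹) * L.g = m by group]
  · intro h
    exact ⟨_, h, by show L.g * (L.g⁻¹ * x * L.g) * L.g⁻¹ = x; group⟩

theorem M0'_b {x : G} (hx : x ∈ L.M0') : x * L.S.b = L.S.b * x := by
  have h := L.S.M0_b (L.mem_M0'.mp hx)
  have hgb : L.g⁻¹ * L.S.b = L.S.b * L.g⁻¹ := (Commute.inv_left L.gb).eq
  calc x * L.S.b = L.g * (L.g⁻¹ * x * L.g) * (L.g⁻¹ * L.S.b) := by group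
    _ = L.g * ((L.g⁻¹ * x * L.g) * L.S.b) * L.g⁻¹ := by rw [hgb]; group
    _ = L.g * L.S.b * (L.g⁻¹ * x) := by rw [h]; group
    _ = L.S.b * x := by rw [L.gb]; group

theorem v_mem_R : L.v ∈ L.S.R :=
  L.S.mem_R.mpr ⟨L.gQ, by rw [L.gc, v0_num]; exact s_mem 0⟩

theorem v_ne_z : L.v ≠ L.S.T.z := L.F.v_ne_z

theorem cfg [Finite G] : Cfg L.S.T.Q (conjS L.g L.S.T.Q) L.S.T.z L.v := L.F.cfg

theorem back_mem [Finite G] {x : G} (hx : x ∈ conjS L.g L.S.T.Q) (hb : x * L.S.b = L.S.b * x) :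
    L.g⁻¹ * x * L.g ∈ L.S.R := by
  refine ⟨mem_conjS' hx, Subgroup.mem_centralizer_singleton_iff.mpr ?_⟩
  calc L.g⁻¹ * x * L.g * L.S.b = L.g⁻¹ * x * (L.g * L.S.b) := by group
    _ = L.g⁻¹ * (x * L.S.b) * L.g := by rw [L.gb]; group
    _ = L.g⁻¹ * L.S.b * x * L.g := by rw [hb]; group
    _ = L.S.b * (L.g⁻¹ * x * L.g) := by rw [(Commute.inv_left L.gb).eq]; group

theorem z_mem_M0' [Finite G] : L.S.T.z ∈ L.M0' :=
  L.mem_M0'.mpr (L.S.R_le_M0 (L.back_mem L.cfg.z_mem L.S.hb.symm))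

theorem exists_p [Finite G] : ∃ p ∈ L.M0', p * L.S.T.z * p⁻¹ = L.S.T.z * L.v := by
  set S := L.S with hS
  set z' := L.g⁻¹ * S.T.z * L.g with hz'
  have hz'R : z' ∈ S.R := L.back_mem L.cfg.z_mem S.hb.symm
  obtain ⟨hQ, hW⟩ := S.mem_R.mp hz'R
  have h0 : S.T.c z' ≠ 0 := by
    intro e
    rcases S.T.c_ker _ hQ e with e | e
    · exact S.T.z_ne (by
        calc S.T.z = L.g * z' * L.g⁻¹ := by rw [hz']; group
          _ = 1 := by rw [e]; group)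
    · exact L.v_ne_z (by
        calc L.v = L.g * z' * L.g⁻¹ := by rw [e]
          _ = S.T.z := by rw [hz']; group)
  obtain ⟨j, hj⟩ := exists_nd h0 hW
  obtain ⟨r, hr, hrc⟩ := S.exists_R (s_mem j)
  refine ⟨L.g * r * L.g⁻¹, ⟨r, S.R_le_M0 hr, rfl⟩, ?_⟩
  have hc := S.T.comm_Q (S.mem_R.mp hr).1 hQ
  rw [hrc, pl_comm, hj, pw_one, commutatorElement_def] at hc
  calc L.g * r * L.g⁻¹ * S.T.z * (L.g * r * L.g⁻¹)⁻¹
      = L.g * (r * z' * r⁻¹ * z'⁻¹) * L.g⁻¹ * (L.g * z' * L.g⁻¹) := by rw [hz']; group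
    _ = L.v * S.T.z := by rw [hc, hz', show L.v = L.g * S.T.z * L.g⁻¹ from rfl]; group
    _ = S.T.z * L.v := L.F.zv.symm

/-- An element moving `z` to `v`. -/
theorem exists_swap [Finite G] :
    ∃ q ∈ L.S.M0, ∃ p ∈ L.M0', (q * p) * L.S.T.z * (q * p)⁻¹ = L.v := by
  obtain ⟨p, hp, hpz⟩ := L.exists_p
  obtain ⟨q, hq, hqc⟩ := L.S.exists_R (s_mem 1)
  rw [← p0_num] at hqc
  have hqQ := (L.S.mem_R.mp hq).1
  refine ⟨q, L.S.R_le_M0 hq, p, hp, ?_⟩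
  have hv : q * L.v * q⁻¹ = L.v * L.S.T.z := L.F.conj_p hqQ hqc
  have hzv : L.S.T.z * L.v = L.v * L.S.T.z := L.F.zv
  calc q * p * L.S.T.z * (q * p)⁻¹ = q * (p * L.S.T.z * p⁻¹) * q⁻¹ := by group
    _ = q * L.v * (L.S.T.z * q⁻¹) := by rw [hpz, hzv]; group
    _ = q * L.v * q⁻¹ * L.S.T.z := by rw [← (Commute.inv_left (L.S.T.Qz hqQ)).eq]; group
    _ = L.v := by rw [hv, mul_assoc, L.S.T.z_sq, mul_one]

/-- An involution of the second kind. -/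
theorem exists_typ [Finite G] : ∃ a ∈ L.S.M0, ∃ x ∈ L.M0',
    (a * x) * L.S.T.z = L.S.T.z * (a * x) ∧ (a * x) * (a * x) = 1 ∧ a * x ∉ L.S.T.Q ∧
      ¬ IsConj L.S.T.z (a * x) := by
  have hA : InW (io A0) := by rw [A0_num]; exact inW_ofN.mpr (by decide +kernel)
  obtain ⟨a, ha, hac⟩ := L.S.exists_R hA
  have haQ := (L.S.mem_R.mp ha).1
  have haA : a ∈ A L.F.Q L.F.v :=
    L.F.mem_A_iff.mpr ⟨haQ, by show cp (L.S.T.c a) = 0; rw [hac, cp_io]⟩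
  obtain ⟨x, hx, hxθ⟩ := L.F.θ_surj W0
  have hbD : L.S.b ∈ L.F.D :=
    L.F.mem_D.mpr ⟨L.S.hb, (Subgroup.mem_centralizer_singleton_iff.mp L.v_mem_R.2).symm⟩
  have hxz : x * L.S.T.z = L.S.T.z * x := (mem_A.mp hx).2
  have hy : L.S.b * x * L.S.b⁻¹ ∈ A L.F.P L.F.z := L.F.B_norm hbD hx
  have hp0 : ap β⁻¹ p0 = p0 := ap_inj β (by rw [ap_ap_inv, p0_num, β_s])
  have hyθ : L.F.θ (L.S.b * x * L.S.b⁻¹) = W0 := by
    show pu (ap (L.S.T.ρ (L.S.b * x * L.S.b⁻¹)) p0) = W0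
    rw [L.S.T.ρ_mul _ _ (Commute.mul_left L.S.hb hxz).eq (Commute.inv_left L.S.hb).eq,
      L.S.T.ρ_mul _ _ L.S.hb hxz, L.S.T.ρ_inv L.S.hb, L.S.hρ, ap_mul, hp0, ap_mul]
    have hW : InW (ap (L.S.T.ρ x) p0) := by
      rw [CoType.decomp (ap (L.S.T.ρ x) p0)]
      have hxθ' : pu (ap (L.S.T.ρ x) p0) = W0 := hxθ
      rw [hxθ']
      refine inW_add (inW_add ?_ ?_) (by rw [W0_num]; exact inW_ofN.mpr (by decide +kernel))
      · intro i; rw [pl_smul_left, v0_num, polar_se, mul_zero]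
      · intro i; rw [pl_smul_left, p0_num, polar_se, mul_zero]
    rw [(fix_iff _).mpr hW]
    exact hxθ
  set w := L.S.b * x * L.S.b⁻¹ * x⁻¹ with hw
  have hwE : w ∈ L.F.Q ⊓ L.F.P := L.F.θ_ker (mul_mem hy (inv_mem hx))
    (by rw [L.F.θ_mul hy (inv_mem hx), L.F.θ_inv hx, hyθ, hxθ, ZModModule.add_self])
  have hwb : L.S.b * w = w * L.S.b := L.F.V_fix hbD hwE
  have hw2 : w * w = 1 := L.F.cfg.E_sq hwE
  have key : ∀ n : ℕ, L.S.b ^ n * x * (L.S.b ^ n)⁻¹ = w ^ n * x := by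
    intro n
    induction n with
    | zero => simp
    | succ n ih =>
      have hc : Commute L.S.b (w ^ n) := Commute.pow_right hwb n
      calc L.S.b ^ (n + 1) * x * (L.S.b ^ (n + 1))⁻¹
          = L.S.b * (L.S.b ^ n * x * (L.S.b ^ n)⁻¹) * L.S.b⁻¹ := by rw [pow_succ']; group
        _ = L.S.b * w ^ n * x * L.S.b⁻¹ := by rw [ih]; group
        _ = w ^ n * (w * x) := by rw [hc.eq, hw]; group
        _ = w ^ (n + 1) * x := by rw [pow_succ]; group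
  have h5 := key 5
  rw [L.S.b5, one_mul, inv_one, mul_one, show w ^ 5 = w by
    rw [show 5 = 2 * 2 + 1 from rfl, pow_succ, pow_mul, show w ^ 2 = 1 by rw [pow_two, hw2],
      one_pow, one_mul]] at h5
  have hw1 : w = 1 := mul_right_cancel (h5.symm.trans (one_mul x).symm)
  have hxb : x * L.S.b = L.S.b * x := (mul_inv_eq_iff_eq_mul.mp (mul_inv_eq_one.mp hw1)).symm
  have hM : x ∈ L.M0' := L.mem_M0'.mpr (L.S.R_le_M0 (L.back_mem (mem_A.mp hx).1 hxb))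
  have ht : L.F.TypP A0 W0 (a * x) :=
    ⟨a, haA, x, hx, rfl, by show pu (L.S.T.c a) = A0; rw [hac, pu_io], hxθ⟩
  obtain ⟨h2, hQ, hD⟩ := L.F.typ_inv pairB ht
  exact ⟨a, L.S.R_le_M0 ha, x, hM, (L.F.mem_D.mp hD).1, h2, hQ, L.F.typ_not_conj pairB fixedB ht⟩

end Loc

end Cfsg.Agent.CoFive
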