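/-
The Hall–Janko group inside the centraliser of the element of order five (helper61).

* `Loc.iso_quot` : a group generated by images of the two conjugate halves `M0`, `M0'`, with
  nothing but powers of `b` killed, is isomorphic to `J₂`
-/
import Cfsg.Agent.Lib.CoFive.Local
import Cfsg.Agent.Lib.JTwoType.System

set_option autoImplicit false

namespace Cfsg.Agent.CoFive

open Cfsg.Agent.CoType Cfsg.Agent.Orth Cfsg.Agent.LargeExtraspecial
open QuadraticMap (polar)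

variable {G : Type*} [Group G]

namespace Std

variable (S : Std G)

theorem bpow_z (k : ℕ) : S.b ^ k * S.T.z = S.T.z * S.b ^ k := (Commute.pow_left S.hb k).eq

theorem bpow_eq_one {k : ℕ} (h : S.b ^ k * S.b ^ k = 1) : S.b ^ k = 1 := by
  have h2 : (S.b ^ k) ^ 2 = 1 := by rw [pow_two, h]
  calc S.b ^ k = ((S.b ^ k) ^ 2) ^ 3 := by
        rw [← pow_mul, ← pow_mul, pow_five_mod S.b5 k, pow_five_mod S.b5 (k * (2 * 3))]
        congr 1
        omega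
    _ = 1 := by rw [h2, one_pow]

/-- An element of `M0` centralising the fixed points of the radical lies there. -/
theorem mem_R_of_comm {m : G} (hm : m ∈ S.M0) (hc : ∀ r ∈ S.R, m * r = r * m) : m ∈ S.R := by
  have hs : ∀ i, ap (S.T.ρ m) (s i) = s i := by
    intro i
    obtain ⟨r, hr, hrc⟩ := S.exists_R (s_mem i)
    rw [← hrc, ← S.T.ρ_conj m (S.M0_z hm) r (S.mem_R.mp hr).1, hc r hr, mul_inv_cancel_right]
  have h1 : S.T.ρ m = 1 := eq_one_of_fix hs (mem_S0.mp (S.ρ_M0 hm)).1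
  exact (S.mem_M0_Q ((S.T.ρ_ker m (S.M0_z hm)).mp h1)).mp hm

end Std

namespace Loc

variable (L : Loc G)

theorem iso_quot [Finite G] (hex : Cfsg.IsExtraspecial 2 L.S.R) {X : Type*} [Group X] [Finite X]
    (H : Subgroup G) (h0 : L.S.M0 ≤ H) (h0' : L.M0' ≤ H) (hH : ∀ h ∈ H, h * L.S.b = L.S.b * h)
    (π : H →* X) (hsurj : Function.Surjective π)
    (hker : ∀ h : H, π h = 1 → ∃ k : ℕ, (h : G) = L.S.b ^ k)
    (hkill : ∀ (k : ℕ) (hk : L.S.b ^ k ∈ H), π ⟨_, hk⟩ = 1) :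
    Nonempty (X ≃* JTwoPerm.jTwo) := by
  classical
  have hzH : L.S.T.z ∈ H := h0 (L.S.R_le_M0 L.S.z_mem_R)
  have heq : ∀ u w : H, π u = π w → ∃ k : ℕ, (u : G) = L.S.b ^ k * (w : G) := by
    intro u w h
    obtain ⟨k, hk⟩ := hker (u * w⁻¹) (by rw [map_mul, map_inv, h, mul_inv_cancel])
    exact ⟨k, by rw [← hk]; simp⟩
  have hinv : ∀ (u w : H) (k : ℕ), (u : G) * u = 1 → (w : G) * w = 1 →
      (u : G) = L.S.b ^ k * (w : G) → (u : G) = w := by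
    intro u w k hu hw h
    have hc : Commute (L.S.b ^ k) (w : G) := Commute.pow_left (hH w w.2).symm k
    rw [h, hc.symm.mul_mul_mul_comm, hw, mul_one] at hu
    rw [h, L.S.bpow_eq_one hu, one_mul]
  have hz2 : (⟨_, hzH⟩ : H) * ⟨_, hzH⟩ = 1 := Subtype.ext L.S.T.z_sq
  set zb := π ⟨_, hzH⟩ with hzb
  have hord : orderOf zb = 2 := by
    refine orderOf_eq_prime (by rw [pow_two, ← map_mul, hz2, map_one]) fun h => L.S.T.z_ne ?_
    obtain ⟨k, hk⟩ := heq ⟨_, hzH⟩ 1 (by rw [← hzb, h, map_one])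
    exact hinv ⟨_, hzH⟩ 1 k L.S.T.z_sq (one_mul _) hk
  have hmem : ∀ m : L.S.M0, π ⟨(m : G), h0 m.2⟩ ∈ Subgroup.centralizer ({zb} : Set X) := by
    intro m
    rw [Subgroup.mem_centralizer_singleton_iff, hzb, ← map_mul, ← map_mul]
    exact congrArg π (Subtype.ext (L.S.M0_z m.2))
  let φ : L.S.M0 →* Subgroup.centralizer ({zb} : Set X) :=
    { toFun := fun m => ⟨π ⟨(m : G), h0 m.2⟩, hmem m⟩
      map_one' := Subtype.ext (π.map_one)
      map_mul' := fun a c => Subtype.ext (π.map_mul ⟨(a : G), h0 a.2⟩ ⟨(c : G), h0 c.2⟩) }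
  have hφ : Function.Bijective φ := by
    constructor
    · refine (injective_iff_map_eq_one φ).mpr fun m hm => Subtype.ext ?_
      obtain ⟨k, hk⟩ := hker _ (congrArg Subtype.val hm)
      have hk' : (m : G) = L.S.b ^ k := hk
      obtain ⟨l, rfl⟩ := L.S.pow_mem_M0 (hk' ▸ m.2)
      rw [hk', pow_mul, L.S.b5, one_pow]; rfl
    · rintro ⟨x, hx⟩
      obtain ⟨h, rfl⟩ := hsurj x
      rw [Subgroup.mem_centralizer_singleton_iff, hzb, ← map_mul, ← map_mul] at hx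
      have hx' : π (h * ⟨_, hzH⟩ * h⁻¹) = π ⟨_, hzH⟩ := by
        rw [map_mul, hx, ← map_mul, mul_inv_cancel_right]
      obtain ⟨k, hk⟩ := heq _ _ hx'
      have hsq : (h * ⟨_, hzH⟩ * h⁻¹ : H) * (h * ⟨_, hzH⟩ * h⁻¹) = 1 := by
        rw [conj_mul, hz2, mul_one, mul_inv_cancel]
      have hcz : (h : G) * L.S.T.z * (h : G)⁻¹ = L.S.T.z :=
        hinv (h * ⟨_, hzH⟩ * h⁻¹) ⟨_, hzH⟩ k (congrArg Subtype.val hsq) L.S.T.z_sq hk
      obtain ⟨j, m, hm, hj⟩ := L.S.mem_cent (mul_inv_eq_iff_eq_mul.mp hcz) (hH h h.2)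
      have hjH : L.S.b ^ j ∈ H := by
        have := mul_mem h.2 (inv_mem (h0 hm))
        rwa [hj, mul_inv_cancel_right] at this
      refine ⟨⟨m, hm⟩, Subtype.ext ?_⟩
      show π ⟨m, h0 hm⟩ = π h
      rw [show h = ⟨_, hjH⟩ * ⟨m, h0 hm⟩ from Subtype.ext hj, map_mul, hkill j hjH, one_mul]
  let eq0 := MulEquiv.ofBijective φ hφ
  let f : Subgroup.centralizer ({zb} : Set X) →* alternatingGroup (Fin 5) :=
    L.S.ψ.comp eq0.symm.toMonoidHom
  have hf : Function.Surjective f := L.S.ψ_surj.comp eq0.symm.surjective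
  have hQ : ∀ c, c ∈ f.ker ↔ (eq0.symm c : G) ∈ L.S.R := fun c => L.S.ψ_ker
  let eR : L.S.R ≃* f.ker :=
    { toFun := fun r => ⟨eq0 ⟨(r : G), L.S.R_le_M0 r.2⟩, (hQ _).mpr (by
        rw [MulEquiv.symm_apply_apply]; exact r.2)⟩
      invFun := fun c => ⟨(eq0.symm c.1 : G), (hQ _).mp c.2⟩
      left_inv := fun r => Subtype.ext (by simp)
      right_inv := fun c => Subtype.ext (by simp)
      map_mul' := fun a c => Subtype.ext (eq0.map_mul ⟨(a : G), L.S.R_le_M0 a.2⟩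
        ⟨(c : G), L.S.R_le_M0 c.2⟩) }
  have hvR := L.v_mem_R
  have hvz : L.v * L.S.T.z = L.S.T.z * L.v := (L.F.zv).symm
  have hvH : L.v ∈ H := h0 (L.S.R_le_M0 hvR)
  have hv2 : L.v * L.v = 1 := by
    show L.g * L.S.T.z * L.g⁻¹ * (L.g * L.S.T.z * L.g⁻¹) = 1
    rw [conj_mul, L.S.T.z_sq, mul_one, mul_inv_cancel]
  obtain ⟨q, hq, p, hp, hqp⟩ := L.exists_swap
  obtain ⟨a, ha, x, hx, hyz, hy2, hyQ, hyc⟩ := L.exists_typ
  have hqpH : q * p ∈ H := mul_mem (h0 hq) (h0' hp)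
  have hyH : a * x ∈ H := mul_mem (h0 ha) (h0' hx)
  have hgz : π ⟨_, hqpH⟩ * zb * (π ⟨_, hqpH⟩)⁻¹ = π ⟨L.v, hvH⟩ := by
    rw [hzb, ← map_mul, ← map_inv, ← map_mul]
    exact congrArg π (Subtype.ext hqp)
  refine (JTwoType.exists_data_of_alt zb hord f.ker ?_
    (LargeExtraspecial.isExtraspecial_congr eR hex)
    (by rw [← Nat.card_congr eR.toEquiv, L.S.card_R]; norm_num)
    (QuotientGroup.quotientKerEquivOfSurjective f hf) ?_ ?_).elim fun D _ => D.exists_iso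
  · intro c hc
    rw [hQ]
    refine L.S.mem_R_of_comm (eq0.symm c).2 fun r hr => ?_
    have h := (Subgroup.mem_centralizer_iff.mp hc) _ (eR ⟨r, hr⟩).2
    have h' := congrArg (fun u => ((eq0.symm u : L.S.M0) : G)) h
    simp [eR] at h'
    exact h'.symm
  · refine ⟨π ⟨_, hqpH⟩, ⟨?_, ?_⟩, ?_⟩
    · rw [hgz, Subgroup.mem_centralizer_singleton_iff, hzb, ← map_mul, ← map_mul]
      exact congrArg π (Subtype.ext hvz)
    · rw [hQ]
      have : eq0.symm (⟨π ⟨_, hqpH⟩ * zb * (π ⟨_, hqpH⟩)⁻¹, by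
          rw [hgz]; exact hmem ⟨L.v, L.S.R_le_M0 hvR⟩⟩) = ⟨L.v, L.S.R_le_M0 hvR⟩ :=
        eq0.symm_apply_eq.mpr (Subtype.ext hgz)
      rw [this]; exact hvR
    · rw [hgz, hzb]
      intro h
      obtain ⟨k, hk⟩ := heq _ _ h
      exact L.v_ne_z (hinv ⟨L.v, hvH⟩ ⟨_, hzH⟩ k hv2 L.S.T.z_sq hk)
  · refine ⟨zb, π ⟨_, hyH⟩, hord, orderOf_eq_prime ?_ fun h => hyQ ?_, fun hc => hyc ?_⟩
    · rw [pow_two, ← map_mul, show (⟨_, hyH⟩ : H) * ⟨_, hyH⟩ = 1 from Subtype.ext hy2, map_one]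
    · obtain ⟨k, hk⟩ := heq ⟨_, hyH⟩ 1 (by rw [h, map_one])
      rw [show a * x = 1 from hinv ⟨_, hyH⟩ 1 k hy2 (one_mul _) hk]
      exact one_mem _
    · obtain ⟨u, hu⟩ := isConj_iff.mp hc
      obtain ⟨h, rfl⟩ := hsurj u
      rw [hzb, ← map_mul, ← map_inv, ← map_mul] at hu
      obtain ⟨k, hk⟩ := heq _ _ hu
      have hsq : (h * ⟨_, hzH⟩ * h⁻¹ : H) * (h * ⟨_, hzH⟩ * h⁻¹) = 1 := by
        rw [conj_mul, hz2, mul_one, mul_inv_cancel]
      exact isConj_iff.mpr ⟨h, hinv (h * ⟨_, hzH⟩ * h⁻¹) ⟨_, hyH⟩ k (congrArg Subtype.val hsq) hy2 hk⟩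

end Loc

end Cfsg.Agent.CoFive
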