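/-
The centraliser of the element of order five in a group of Conway type (helper61).

* `Loc.layer_cent` : the layer is `J₂` and its centraliser is `A₅`
-/
import Cfsg.Agent.Lib.CoFive.Quotient
import Cfsg.Agent.Lib.MultiplierJTwo.Upper
import Cfsg.Agent.Lib.IcosianGroup.Hundred
import Cfsg.Agent.Lib.Components.Basic
import Cfsg.Agent.Lib.Components.Quasisimple

set_option autoImplicit false
open scoped commutatorElement

namespace Cfsg.Agent.CoFive

open Cfsg.Agent.CoType Cfsg.Agent.Orth Cfsg.Agent.LargeExtraspecial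
open QuadraticMap (polar)

theorem commutator_jTwo_eq_top : commutator JTwoPerm.jTwo = ⊤ := by
  have hs := JTwoPerm.isSimpleGroup_jTwo
  refine (hs.eq_bot_or_eq_top_of_normal _ inferInstance).resolve_left fun h => ?_
  have hcomm : IsMulCommutative JTwoPerm.jTwo := ⟨⟨fun a b => by
    have := Subgroup.commutator_mem_commutator (Subgroup.mem_top a) (Subgroup.mem_top b)
    rw [← commutator_def, h, Subgroup.mem_bot] at this
    exact commutatorElement_eq_one_iff_mul_comm.mp this⟩⟩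
  letI : CommGroup JTwoPerm.jTwo := { (inferInstance : Group JTwoPerm.jTwo) with
    mul_comm := fun a b => hcomm.1.1 a b }
  have hp : (Nat.card JTwoPerm.jTwo).Prime := IsSimpleGroup.prime_card
  rw [JTwoPerm.natCard_jTwo] at hp
  norm_num at hp

/-- A central extension of `J₂` by a group of order five splits over the commutator subgroup. -/
theorem commutator_iso {C : Type*} [Group C] [Finite C] (σ : C →* JTwoPerm.jTwo)
    (hσ : Function.Surjective σ) (hz : σ.ker ≤ Subgroup.center C) (hk : Nat.card σ.ker = 5) :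
    Nonempty (commutator C ≃* JTwoPerm.jTwo) ∧ ⁅commutator C, commutator C⁆ = commutator C := by
  set D := commutator C with hD
  have hmap : D.map σ = ⊤ := by
    rw [hD, commutator_def, Subgroup.map_commutator, Subgroup.map_top_of_surjective σ hσ,
      ← commutator_def, commutator_jTwo_eq_top]
  have hmap2 : ⁅D, D⁆.map σ = ⊤ := by
    rw [Subgroup.map_commutator, hmap, ← commutator_def, commutator_jTwo_eq_top]
  have hsplit : ∀ (N : Subgroup C), N.map σ = ⊤ → ∀ c : C, ∃ n ∈ N, ∃ k ∈ σ.ker, c = n * k := by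
    intro N hN c
    obtain ⟨n, hn, hnc⟩ : σ c ∈ N.map σ := hN ▸ Subgroup.mem_top _
    exact ⟨n, hn, n⁻¹ * c, by rw [MonoidHom.mem_ker, map_mul, map_inv, hnc, inv_mul_cancel],
      by group⟩
  have hcen : ∀ k ∈ σ.ker, ∀ x : C, Commute x k := fun k hk x => Subgroup.mem_center_iff.mp (hz hk) x
  have hperf : ⁅D, D⁆ = D := by
    refine le_antisymm (Subgroup.commutator_le.mpr fun a ha b hb =>
      mul_mem (mul_mem (mul_mem ha hb) (inv_mem ha)) (inv_mem hb)) ?_
    have h2 : D ≤ ⁅⁅D, D⁆, ⁅D, D⁆⁆ := by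
      rw [hD]
      conv_lhs => rw [commutator_def]
      refine Subgroup.commutator_le.mpr fun a _ b _ => ?_
      obtain ⟨n, hn, k, hk, rfl⟩ := hsplit _ hmap2 a
      obtain ⟨n', hn', k', hk', rfl⟩ := hsplit _ hmap2 b
      rw [show ⁅n * k, n' * k'⁆ = ⁅n, n'⁆ by
        have e1 := hcen k hk
        have e2 := hcen k' hk'
        calc ⁅n * k, n' * k'⁆ = n * (k * (n' * k')) * k⁻¹ * n⁻¹ * k'⁻¹ * n'⁻¹ := by
              rw [commutatorElement_def]; group
          _ = n * (n' * k') * (n⁻¹ * k'⁻¹) * n'⁻¹ := by rw [← (e1 (n' * k')).eq]; group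
          _ = ⁅n, n'⁆ := by rw [← (e2 n⁻¹).inv_right.eq.symm, commutatorElement_def]; group]
      exact Subgroup.commutator_mem_commutator hn hn'
    refine h2.trans (Subgroup.commutator_le.mpr fun a ha b hb => ?_)
    exact mul_mem (mul_mem (mul_mem ha hb) (inv_mem ha)) (inv_mem hb)
  refine ⟨?_, hperf⟩
  let τ : D →* JTwoPerm.jTwo := σ.comp D.subtype
  have hτ : Function.Surjective τ := by
    intro y
    obtain ⟨d, hd, hdy⟩ : y ∈ D.map σ := hmap ▸ Subgroup.mem_top y
    exact ⟨⟨d, hd⟩, hdy⟩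
  have hst : Cfsg.IsStemExtension τ := by
    refine ⟨hτ, fun d hd => Subgroup.mem_center_iff.mpr fun x => Subtype.ext (hcen d hd x).eq, ?_⟩
    intro d _
    have h : (commutator D).map D.subtype = D := by
      rw [commutator_def, Subgroup.map_commutator, ← MonoidHom.range_eq_map, Subgroup.range_subtype,
        hperf]
    obtain ⟨d', hd', he⟩ : (d : C) ∈ (commutator D).map D.subtype := h.symm ▸ d.2
    rwa [← show d' = d from Subtype.ext he]
  obtain ⟨π, hπ⟩ := MultiplierJTwo.exists_surj_two τ hst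
  have h2 : Nat.card τ.ker ≤ 2 := by
    refine (Nat.card_le_card_of_surjective π hπ).trans_eq ?_
    rw [Nat.card_congr Multiplicative.toAdd, Nat.card_zmod]
  let f : τ.ker →* σ.ker :=
    { toFun := fun d => ⟨((d : D) : C), d.2⟩
      map_one' := rfl
      map_mul' := fun _ _ => rfl }
  have hdvd : Nat.card τ.ker ∣ 5 := hk ▸ Subgroup.card_dvd_of_injective f
    fun a b h => Subtype.ext (Subtype.ext (congrArg (fun u : σ.ker => (u : C)) h))
  have h1 : Nat.card τ.ker = 1 := by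
    rcases (Nat.dvd_prime (by norm_num : (5 : ℕ).Prime)).mp hdvd with h | h
    · exact h
    · omega
  exact ⟨MulEquiv.ofBijective τ ⟨(MonoidHom.ker_eq_bot_iff τ).mp (Subgroup.card_eq_one.mp h1), hτ⟩⟩

theorem isQuasisimple_of_equiv {H : Type*} [Group H] [Finite H] (e : H ≃* JTwoPerm.jTwo) :
    Cfsg.IsQuasisimple H := by
  have := JTwoPerm.isSimpleGroup_jTwo
  have : IsSimpleGroup H := e.isSimpleGroup
  have : Group.IsPerfect H := by
    constructor
    refine (IsSimpleGroup.eq_bot_or_eq_top_of_normal (commutator H) inferInstance).resolve_left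
      fun h => ?_
    have h' : (commutator H).map e.toMonoidHom = commutator JTwoPerm.jTwo := by
      rw [commutator_def, Subgroup.map_commutator, Subgroup.map_top_of_surjective _ e.surjective,
        ← commutator_def]
    rw [h, Subgroup.map_bot, commutator_jTwo_eq_top] at h'
    exact bot_ne_top h'
  exact Components.isQuasisimple_of_normal_le_center fun N hN =>
    (hN.eq_bot_or_eq_top).elim (fun h => Or.inr (h ▸ bot_le)) Or.inl

namespace Loc

variable {G : Type*} [Group G] (L : Loc G)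

theorem comm01' {m x : G} (hm : m ∈ L.M1') (hx : x ∈ L.M0') : m * x = x * m := by
  obtain ⟨m', hm', rfl⟩ := hm
  obtain ⟨x', hx', rfl⟩ := hx
  show (MulAut.conj L.g) m' * (MulAut.conj L.g) x' = (MulAut.conj L.g) x' * (MulAut.conj L.g) m'
  rw [← map_mul, L.S.comm01 hm' hx', map_mul]

theorem M0'_perfect : ⁅L.M0', L.M0'⁆ = L.M0' := by
  rw [M0', ← Subgroup.map_commutator, L.S.M0_perfect]

/-- The three vectors. -/
def three : Fin 3 → V8 := ![v0, io A0, io W0]

theorem three_inW (i : Fin 3) : InW (three i) := by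
  fin_cases i
  · show InW v0; rw [v0_num]; exact s_mem 0
  · show InW (io A0); rw [A0_num]; exact inW_ofN.mpr (by decide +kernel)
  · show InW (io W0); rw [W0_num]; exact inW_ofN.mpr (by decide +kernel)

theorem three_perp : ∀ i : Fin 3, polar ⇑qm (three i) v0 = 0 := by
  intro i
  rw [pl_comm, polar_v0]
  fin_cases i
  · exact (by decide +kernel : cp v0 = 0)
  · exact cp_io _
  · exact cp_io _

theorem M1_le_Y : L.S.M1 ≤ Mc L.S.T three := fun m hm =>
  (mem_Mc _ _).mpr ⟨L.S.M1_z hm, fun x hx ⟨i, hi⟩ =>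
    L.S.M1_comm hm (L.S.mem_R.mpr ⟨hx, hi ▸ three_inW i⟩)⟩

/-- Lifts of the three vectors lie in the conjugate half. -/
theorem lift_mem_M0' [Finite G] {x : G} (hxR : x ∈ L.S.R) {i : Fin 3}
    (hi : L.S.T.c x = three i) : x ∈ L.M0' := by
  obtain ⟨hxQ, -⟩ := L.S.mem_R.mp hxR
  have hxb : x * L.S.b = L.S.b * x := Subgroup.mem_centralizer_singleton_iff.mp hxR.2
  have hxv : x * L.v = L.v * x := (comm_iff hxQ L.gQ).mpr (by rw [L.gc, hi]; exact three_perp i)
  have hgi : L.g⁻¹ * L.S.b = L.S.b * L.g⁻¹ := (Commute.inv_left L.gb).eq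
  have hyz : L.g⁻¹ * x * L.g * L.S.T.z = L.S.T.z * (L.g⁻¹ * x * L.g) := by
    calc L.g⁻¹ * x * L.g * L.S.T.z = L.g⁻¹ * (x * L.v) * L.g := by
          rw [show L.v = L.g * L.S.T.z * L.g⁻¹ from rfl]; group
      _ = L.g⁻¹ * (L.v * x) * L.g := by rw [hxv]
      _ = L.S.T.z * (L.g⁻¹ * x * L.g) := by
          rw [show L.v = L.g * L.S.T.z * L.g⁻¹ from rfl]; group
  have hyb : L.g⁻¹ * x * L.g * L.S.b = L.S.b * (L.g⁻¹ * x * L.g) :=
    (Commute.mul_left (Commute.mul_left hgi hxb) L.gb).eq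
  obtain ⟨k, m, hm, hy⟩ := L.S.mem_cent hyz hyb
  have h4 : x ^ 4 = 1 := by
    have h2 : x ^ 4 = x * x * (x * x) := by
      rw [pow_succ, pow_succ, pow_two, mul_assoc]
    rw [h2, L.S.T.sq x hxQ]
    exact pw_sq L.S.T.z_sq _
  have hy4 : (L.S.b ^ k * m) ^ 4 = 1 := by
    rw [← hy, show L.g⁻¹ * x * L.g = L.g⁻¹ * x * (L.g⁻¹)⁻¹ by group, conj_pow, h4, mul_one,
      mul_inv_cancel]
  rw [(Commute.pow_left (L.S.M0_b hm).symm k).mul_pow, mul_eq_one_iff_eq_inv, ← pow_mul] at hy4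
  have h5 : 5 ∣ k :=
    (Nat.Coprime.dvd_mul_right (by norm_num)).mp (L.S.pow_mem_M0 (hy4 ▸ inv_mem (pow_mem hm 4)))
  obtain ⟨l, rfl⟩ := h5
  rw [pow_mul, L.S.b5, one_pow, one_mul] at hy
  exact L.mem_M0'.mpr (hy ▸ hm)

theorem M1'_le_Y [Finite G] : L.M1' ≤ Mc L.S.T three := fun _ hm =>
  (mem_Mc _ _).mpr ⟨L.comm01' hm L.z_mem_M0', fun _ hx ⟨i, hi⟩ => L.comm01' hm
    (L.lift_mem_M0' (L.S.mem_R.mpr ⟨hx, hi ▸ three_inW i⟩) hi)⟩

/-- The numbers of the vectors orthogonal to the three. -/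
@[irreducible] def perpL : Finset ℕ :=
  (Finset.range 256).filter fun n => (!pN n 1 && !pN n 56 && !pN n 12) = true

theorem perp_len : perpL.card ≤ 32 := by
  unfold perpL; decide +kernel

theorem mem_perpL {n : ℕ} (hn : n < 256) (h1 : pN n 1 = false) (h2 : pN n 56 = false)
    (h3 : pN n 12 = false) : n ∈ perpL := by
  unfold perpL
  rw [Finset.mem_filter, Finset.mem_range]
  exact ⟨hn, by rw [h1, h2, h3]; rfl⟩

theorem card_perp : Nat.card {w : V8 // ∀ i, polar ⇑qm w (three i) = 0} ≤ 32 := by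
  have t0 : three 0 = ofN 1 := v0_num
  have t1 : three 1 = ofN 56 := A0_num
  have t2 : three 2 = ofN 12 := W0_num
  have key : ∀ (w : V8) (n : ℕ), polar ⇑qm w (ofN n) = 0 → pN (toN w) n = false := by
    intro w n e
    rw [← ofN_toN w, polar_ofN, b2_eq] at e
    exact e
  have h : ∀ w : {w : V8 // ∀ i, polar ⇑qm w (three i) = 0}, toN w.1 ∈ perpL := fun w =>
    mem_perpL (toN_lt _) (key _ _ (by rw [← t0]; exact w.2 0)) (key _ _ (by rw [← t1]; exact w.2 1))
      (key _ _ (by rw [← t2]; exact w.2 2))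
  have inj : Function.Injective fun w : {w : V8 // ∀ i, polar ⇑qm w (three i) = 0} =>
      (⟨toN w.1, h w⟩ : perpL) := fun a c hac => Subtype.ext (by
    rw [← ofN_toN a.1, ← ofN_toN c.1, show toN a.1 = toN c.1 from congrArg Subtype.val hac])
  have hle := Nat.card_le_card_of_injective _ inj
  rw [Nat.card_eq_finsetCard] at hle
  exact hle.trans perp_len

theorem card_Y [Finite G] : Nat.card (Mc L.S.T three) ≤ 64 * (16 * 60) := by
  set T := L.S.T with hT
  let f : Mc T three →* IsoGrp qm :=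
    { toFun := fun g => T.ρ g
      map_one' := T.ρ_one
      map_mul' := fun g h => T.ρ_mul g h ((mem_Mc _ _).mp g.2).1 ((mem_Mc _ _).mp h.2).1 }
  have hr : Nat.card f.range ≤ 16 * 60 := by
    refine card_Y_le _ (by rintro _ ⟨g, rfl⟩; exact T.ρ_mem _ ((mem_Mc _ _).mp g.2).1) ?_
    rintro _ ⟨g, rfl⟩
    exact ⟨Mc.fix g.2 0, Mc.fix g.2 1, Mc.fix g.2 2⟩
  have hk : Nat.card f.ker ≤ 64 := by
    calc Nat.card f.ker ≤ Nat.card {x : G // x ∈ T.Q ∧ ∀ i, polar ⇑qm (T.c x) (three i) = 0} :=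
          Nat.card_le_card_of_injective (fun g => ⟨g.1.1, by
            have hQ := (T.ρ_ker _ ((mem_Mc _ _).mp g.1.2).1).mp g.2
            exact ⟨hQ, (Mc.mem_Q hQ).mp g.1.2⟩⟩)
            fun a c h => Subtype.ext (Subtype.ext (Subtype.ext_iff.mp h :))
      _ = 2 * Nat.card {w : V8 // ∀ i, polar ⇑qm w (three i) = 0} :=
          card_over T fun w => ∀ i, polar ⇑qm w (three i) = 0
      _ ≤ 64 := by have := card_perp; omega
  rw [Subgroup.card_eq_card_quotient_mul_card_subgroup f.ker,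
    Nat.card_congr (QuotientGroup.quotientKerEquivRange f).toEquiv, mul_comm]
  exact Nat.mul_le_mul hk hr

theorem inter_equiv [Finite G] :
    Nonempty (↥(L.S.M1 ⊓ L.M1') ≃* alternatingGroup (Fin 5)) := by
  let f : ↥(L.S.M1 ⊓ L.M1') →* S1 :=
    { toFun := fun g => ⟨L.S.T.ρ g, L.S.ρ_M1 g.2.1⟩
      map_one' := Subtype.ext L.S.T.ρ_one
      map_mul' := fun g h => Subtype.ext (L.S.T.ρ_mul g h (L.S.M1_z g.2.1) (L.S.M1_z h.2.1)) }
  have hinj : Function.Injective f := by
    refine (injective_iff_map_eq_one f).mpr ?_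
    rintro ⟨m, hm1, hm1'⟩ hm
    have hmQ : m ∈ L.S.T.Q := (L.S.T.ρ_ker m (L.S.M1_z hm1)).mp (congrArg Subtype.val hm)
    have hV := (L.S.mem_M1_Q hmQ).mp hm1
    obtain ⟨p, hp, hpz⟩ := L.exists_p
    have hvQ := L.gQ
    let F : Fr G := ⟨L.S.T, p, hpz.symm ▸ mul_mem L.S.T.data.z_mem hvQ, by
      rw [hpz, L.S.T.c_mul _ L.S.T.data.z_mem _ hvQ, L.S.T.c_z, zero_add]; exact L.gc⟩
    have hmp : p * m * p⁻¹ = m := by rw [← L.comm01' hm1' hp, mul_inv_cancel_right]
    obtain ⟨i, j, hij⟩ := F.E_inV (e := m) ⟨hmQ, ⟨m, hmQ, hmp⟩⟩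
    have hz0 : ∀ i, L.S.T.c (pw L.S.T.z i) = 0 := fun i => by
      rcases z2 i with rfl | rfl <;> simp [L.S.T.c_one, L.S.T.c_z]
    have hj : j = 0 := by
      by_contra hj
      obtain rfl : j = 1 := (z2 j).resolve_left hj
      have hc : L.S.T.c m = v0 := by
        rw [hij, pw_one, L.S.T.c_mul _ (pw_mem L.S.T.data.z_mem i) _ F.hv]
        show L.S.T.c (pw L.S.T.z i) + L.S.T.c F.v = v0
        rw [hz0, zero_add]; exact F.cv
      have h1 : polar ⇑qm v0 p0 = 0 := by rw [← hc, p0_num]; exact hV 1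
      rw [polar_v0, cp_p0] at h1
      exact one_ne_zero h1
    rw [hj, pw_zero, mul_one] at hij
    have hij' : m = pw L.S.T.z i := hij
    rcases z2 i with rfl | rfl
    · exact Subtype.ext (hij'.trans (pw_zero _))
    · rw [pw_one] at hij'
      subst hij'
      rw [hpz] at hmp
      refine absurd ?_ (fun e : L.v = 1 => L.S.T.z_ne (conj_eq_one_iff.mp e))
      exact mul_left_cancel (hmp.trans (mul_one _).symm)
  have h60 : 60 ≤ Nat.card ↥(L.S.M1 ⊓ L.M1') := by
    have hA := L.S.card_M1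
    have hB : Nat.card L.M1' = 32 * 60 := by
      rw [M1', Subgroup.card_map_of_injective (MulAut.conj L.g).injective, hA]
    have hY := L.card_Y
    set Y := Mc L.S.T three
    have e1 : Nat.card L.S.M1 * L.S.M1.relIndex Y = Nat.card Y := by
      rw [← Subgroup.relIndex_bot_left, ← Subgroup.relIndex_bot_left,
        Subgroup.relIndex_mul_relIndex _ _ _ bot_le L.M1_le_Y]
    have e2 : Nat.card ↥(L.S.M1 ⊓ L.M1') * L.S.M1.relIndex L.M1' = Nat.card L.M1' := by
      rw [← Subgroup.relIndex_bot_left, ← Subgroup.relIndex_bot_left, ← Subgroup.inf_relIndex_right L.S.M1,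
        Subgroup.relIndex_mul_relIndex _ _ _ bot_le inf_le_right]
    have hne : L.S.M1.relIndex Y ≠ 0 := fun h => by
      rw [h, mul_zero] at e1
      exact Nat.card_pos.ne' e1.symm
    have hle := Subgroup.relIndex_le_of_le_right L.M1'_le_Y hne
    rw [hA] at e1
    rw [hB] at e2
    have h32 : L.S.M1.relIndex Y ≤ 32 := by omega
    by_contra hlt
    have := Nat.mul_le_mul (Nat.le_of_lt_succ (not_le.mp hlt) : _ ≤ 59) (hle.trans h32)
    omega
  have hle : Nat.card ↥(L.S.M1 ⊓ L.M1') ≤ Nat.card S1 := Nat.card_le_card_of_injective f hinj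
  rw [card_S1] at hle
  have hb : Function.Bijective f :=
    (Nat.bijective_iff_injective_and_card f).mpr ⟨hinj, by rw [card_S1]; omega⟩
  exact ⟨(MulEquiv.ofBijective f hb).trans equivS1⟩

theorem layer_cent [Finite G] (hex : Cfsg.IsExtraspecial 2 L.S.R) (Cb : Subgroup G)
    (hCb : ∀ g, g ∈ Cb ↔ g * L.S.b = L.S.b * g) :
    Cfsg.Spor.IsoJ2 ↥(Cfsg.layer ↥Cb) ∧
      Nonempty (↥(Subgroup.centralizer (((Cfsg.layer ↥Cb).map Cb.subtype : Subgroup G) : Set G)) ≃*
        alternatingGroup (Fin 5)) := by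
  classical
  have hb : L.S.b ∈ Cb := (hCb _).mpr rfl
  set Zb : Subgroup Cb := Subgroup.zpowers (⟨L.S.b, hb⟩ : Cb) with hZb
  have hZc : Zb ≤ Subgroup.center Cb := Subgroup.zpowers_le.mpr
    (Subgroup.mem_center_iff.mpr fun x => Subtype.ext ((hCb x).mp x.2))
  have : Zb.Normal := ⟨fun n hn g => by
    rwa [Subgroup.mem_center_iff.mp (hZc hn) g, mul_inv_cancel_right]⟩
  have hM0 : L.S.M0 ≤ Cb := fun g hg => (hCb g).mpr (L.S.M0_b hg)
  have hM0' : L.M0' ≤ Cb := fun g hg => (hCb g).mpr (L.M0'_b hg)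
  have hob : orderOf (⟨L.S.b, hb⟩ : Cb) = 5 := by
    rw [← L.S.orderOf_b, ← Subgroup.orderOf_coe]
  have hkmem : ∀ h : Cb, QuotientGroup.mk' Zb h = 1 → ∃ k : ℕ, (h : G) = L.S.b ^ k := by
    intro h hh
    obtain ⟨k, hk⟩ := mem_powers_iff_mem_zpowers.mpr ((QuotientGroup.eq_one_iff h).mp hh)
    exact ⟨k, by rw [← hk]; rfl⟩
  have hkill : ∀ (k : ℕ) (hk : L.S.b ^ k ∈ Cb), QuotientGroup.mk' Zb ⟨_, hk⟩ = 1 := fun k hk =>
    (QuotientGroup.eq_one_iff _).mpr (by
      rw [show (⟨L.S.b ^ k, hk⟩ : Cb) = (⟨L.S.b, hb⟩ : Cb) ^ k from Subtype.ext rfl]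
      exact pow_mem (Subgroup.mem_zpowers _) k)
  obtain ⟨e⟩ := L.iso_quot hex Cb hM0 hM0' (fun g hg => (hCb g).mp hg) (QuotientGroup.mk' Zb)
    (QuotientGroup.mk'_surjective _) hkmem hkill
  set σ : Cb →* JTwoPerm.jTwo := e.toMonoidHom.comp (QuotientGroup.mk' Zb) with hσ
  have hσk : σ.ker = Zb := by
    ext c
    rw [MonoidHom.mem_ker, hσ]
    exact (map_eq_one_iff e e.injective).trans (QuotientGroup.eq_one_iff c)
  obtain ⟨⟨eD⟩, hperf⟩ := commutator_iso σ (e.surjective.comp (QuotientGroup.mk'_surjective _))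
    (hσk ▸ hZc) (by rw [hσk, hZb, Nat.card_zpowers, hob])
  -- the layer
  have hlay : Cfsg.layer ↥Cb = commutator Cb := le_antisymm
    (Components.layer_le fun K hK => by
      rw [← Components.IsComponent.perfect hK, commutator_def]
      exact Subgroup.commutator_mono le_top le_top)
    (Components.IsComponent.le_layer
      ⟨Subgroup.Normal.isSubnormal inferInstance, isQuasisimple_of_equiv eD⟩)
  rw [hlay]
  refine ⟨⟨eD.trans IcoGroup.equivJTwo.symm⟩, ?_⟩
  -- the layer is generated by the two halves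
  set Dm : Subgroup G := (commutator Cb).map Cb.subtype with hDm
  have hDeq : Dm = ⁅Cb, Cb⁆ := by
    rw [hDm, commutator_def, Subgroup.map_commutator, ← MonoidHom.range_eq_map, Subgroup.range_subtype]
  set L0 := L.S.M0 ⊔ L.M0' with hL0
  have hle : L0 ≤ Dm := by
    rw [hDeq]
    refine sup_le ?_ ?_
    · rw [← L.S.M0_perfect]; exact Subgroup.commutator_mono hM0 hM0
    · rw [← L.M0'_perfect]; exact Subgroup.commutator_mono hM0' hM0'
  have hL0C : L0 ≤ Cb := sup_le hM0 hM0'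
  set π₀ : L0 →* Cb ⧸ Zb := (QuotientGroup.mk' Zb).comp (Subgroup.inclusion hL0C) with hπ₀
  obtain ⟨e0⟩ := L.iso_quot hex L0 le_sup_left le_sup_right
    (fun g hg => (hCb g).mp (hL0C hg)) π₀.rangeRestrict π₀.rangeRestrict_surjective
    (fun h hh => hkmem _ (congrArg Subtype.val hh)) (fun k hk => Subtype.ext (hkill k (hL0C hk)))
  have hDeq0 : L0 = Dm := by
    refine Subgroup.eq_of_le_of_card_ge hle ?_
    rw [hDm, Subgroup.card_map_of_injective Cb.subtype_injective, Nat.card_congr eD.toEquiv,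
      ← Nat.card_congr e0.toEquiv]
    exact Nat.card_le_card_of_surjective _ π₀.rangeRestrict_surjective
  -- its centraliser
  have hcent : Subgroup.centralizer (Dm : Set G) = L.S.M1 ⊓ L.M1' := by
    rw [← hDeq0]
    ext c
    rw [Subgroup.mem_centralizer_iff]
    constructor
    · intro h
      have h0 : ∀ x ∈ L.S.M0, c * x = x * c := fun x hx =>
        (h x (Subgroup.mem_sup_left hx)).symm
      have key : ∀ u : G, (∀ x ∈ L.S.M0, u * x = x * u) → u ∈ L.S.M1 := fun u hu =>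
        (mem_Mc _ _).mpr ⟨hu _ (L.S.R_le_M0 L.S.z_mem_R), fun x hx ⟨i, hi⟩ =>
          hu x (L.S.R_le_M0 (L.S.mem_R.mpr ⟨hx, hi ▸ s_mem _⟩))⟩
      refine ⟨key c h0, L.g⁻¹ * c * L.g, key _ fun x hx => ?_, ?_⟩
      · have h' := h (L.g * x * L.g⁻¹) (Subgroup.mem_sup_right ⟨x, hx, rfl⟩)
        calc L.g⁻¹ * c * L.g * x = L.g⁻¹ * (c * (L.g * x * L.g⁻¹)) * L.g := by group
          _ = x * (L.g⁻¹ * c * L.g) := by rw [← h']; group
      · show L.g * (L.g⁻¹ * c * L.g) * L.g⁻¹ = c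
        group
    · rintro ⟨h1, h1'⟩ x hx
      have hle' : L0 ≤ Subgroup.centralizer ({c} : Set G) := sup_le
        (fun x hx => Subgroup.mem_centralizer_singleton_iff.mpr (L.S.comm01 h1 hx).symm)
        (fun x hx => Subgroup.mem_centralizer_singleton_iff.mpr (L.comm01' h1' hx).symm)
      exact Subgroup.mem_centralizer_singleton_iff.mp (hle' hx)
  rw [hcent]
  exact L.inter_equiv

end Loc

end Cfsg.Agent.CoFive
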